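import Cfsg.Agent.Known.PElementPairs.Solvable

/-!
Pairs of permutations whose product is not a `p`-element and which generate a non-solvable group: restriction to
an invariant set, placing, and certificates.
-/

set_option autoImplicit false

namespace Cfsg.Lib.PElementPairs

open Equiv

variable {α ι : Type*}

/-- `u` and `v` generate a non-solvable group and their product does not have `p`-power order. -/
def Bad (p : ℕ) (u v : Perm α) : Prop :=
  (¬ ∃ k : ℕ, orderOf (u * v) = p ^ k) ∧ ¬ Group.IsSolvable ↥(Subgroup.closure ({u, v} : Set (Perm α)))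

theorem Bad.of_restrict {p : ℕ} [Fact p.Prime] {u v : Perm α} {U V : Perm ι} {e : ι → α}
    (he : Function.Injective e) (hu : ∀ i, u (e i) = e (U i)) (hv : ∀ i, v (e i) = e (V i))
    (h : Bad p U V) : Bad p u v := by
  have hp := (Fact.out : p.Prime)
  let K : Subgroup (Perm α × Perm ι) :=
    { carrier := {x | ∀ i, x.1 (e i) = e (x.2 i)}
      one_mem' := fun i => rfl
      mul_mem' := fun {a b} ha hb i => by simp [Perm.mul_apply, hb i, ha (b.2 i)]
      inv_mem' := fun {a} ha i => by
        have h' := ha ((a.2)⁻¹ i)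
        rw [Perm.coe_inv, Equiv.apply_symm_apply] at h'
        show (a.1)⁻¹ (e i) = e ((a.2)⁻¹ i)
        rw [← h', Perm.coe_inv, Equiv.symm_apply_apply]
        rfl }
  have huK : (u, U) ∈ K := hu
  have hvK : (v, V) ∈ K := hv
  constructor
  · rintro ⟨k, hk⟩
    refine h.1 ?_
    have hm : ((u * v) ^ p ^ k, (U * V) ^ p ^ k) ∈ K := pow_mem (mul_mem huK hvK) _
    have h1 : (U * V) ^ p ^ k = 1 := Equiv.ext fun i => he (by
      have := hm i
      rw [← hk, pow_orderOf_eq_one] at this
      rw [← hk, ← this]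
      rfl)
    obtain ⟨j, -, hj⟩ := (Nat.dvd_prime_pow hp).1 (orderOf_dvd_of_pow_eq_one h1)
    exact ⟨j, hj⟩
  · intro hs
    refine h.2 ?_
    let C : Subgroup (Perm α × Perm ι) := Subgroup.closure {(u, U), (v, V)}
    have hCK : C ≤ K := (Subgroup.closure_le _).2 (by rintro x (rfl | rfl) <;> assumption)
    have hCu : C.map (MonoidHom.fst (Perm α) (Perm ι)) = Subgroup.closure {u, v} := by
      rw [MonoidHom.map_closure, Set.image_pair]; rfl
    have hCU : C.map (MonoidHom.snd (Perm α) (Perm ι)) = Subgroup.closure {U, V} := by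
      rw [MonoidHom.map_closure, Set.image_pair]; rfl
    let φ : C →* ↥(Subgroup.closure ({u, v} : Set (Perm α))) :=
      ((MonoidHom.fst (Perm α) (Perm ι)).comp C.subtype).codRestrict _ fun x =>
        hCu ▸ Subgroup.mem_map_of_mem _ x.2
    have hinj : Function.Injective φ := fun x y hxy => by
      have h1 : (x : Perm α × Perm ι).1 = (y : Perm α × Perm ι).1 := congrArg Subtype.val hxy
      refine Subtype.ext (Prod.ext h1 (Equiv.ext fun i => he ?_))
      rw [← hCK x.2 i, ← hCK y.2 i, h1]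
    haveI : Group.IsSolvable C := Group.isSolvable_of_isSolvable_injective hinj
    let ψ : C →* ↥(Subgroup.closure ({U, V} : Set (Perm ι))) :=
      ((MonoidHom.snd (Perm α) (Perm ι)).comp C.subtype).codRestrict _ fun x =>
        hCU ▸ Subgroup.mem_map_of_mem _ x.2
    have hsurj : Function.Surjective ψ := fun y => by
      have hy' : (y : Perm ι) ∈ C.map (MonoidHom.snd (Perm α) (Perm ι)) := by rw [hCU]; exact y.2
      obtain ⟨x, hx, hy⟩ := hy' 
      exact ⟨⟨x, hx⟩, Subtype.ext hy⟩
    exact Group.isSolvable_of_surjective hsurj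

theorem Bad.symm {p : ℕ} {u v : Perm α} (h : Bad p u v) : Bad p v u := by
  refine ⟨?_, ?_⟩
  · rw [show orderOf (v * u) = orderOf (u * v) by
      rw [show v * u = v * (u * v) * v⁻¹ by group, ← MulAut.conj_apply,
        MulEquiv.orderOf_eq]]
    exact h.1
  · rw [Set.pair_comm]
    exact h.2

theorem Bad.conj {p : ℕ} [Fact p.Prime] {u v : Perm α} (h : Bad p u v) (c : Perm α) :
    Bad p (c * u * c⁻¹) (c * v * c⁻¹) :=
  h.of_restrict (e := c) c.injective (fun i => by simp [Perm.mul_apply]) (fun i => by simp [Perm.mul_apply])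

/-- An even permutation carrying one frame to the other, up to a transposition of the frame. -/
theorem exists_even_placing [Fintype α] [DecidableEq α] [Finite ι] [DecidableEq ι] {e f : ι → α}
    (he : Function.Injective e) (hf : Function.Injective f) {r s : ι} (hrs : r ≠ s) :
    ∃ g : Perm α, Perm.sign g = 1 ∧ ((∀ i, g (f i) = e i) ∨ ∀ i, g (f (Equiv.swap r s i)) = e i) := by
  classical
  let σ : {x // x ∈ Set.range f} ≃ {x // x ∈ Set.range e} :=
    (Equiv.ofInjective f hf).symm.trans (Equiv.ofInjective e he)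
  let g : Perm α := σ.extendSubtype
  have hg : ∀ i, g (f i) = e i := fun i => by
    show σ.extendSubtype (f i) = e i
    rw [Equiv.extendSubtype_apply_of_mem σ (f i) ⟨i, rfl⟩]
    simp [σ, Equiv.ofInjective_symm_apply]
  rcases Int.units_eq_one_or (Perm.sign g) with h | h
  · exact ⟨g, h, Or.inl hg⟩
  · refine ⟨Equiv.swap (e r) (e s) * g, ?_, Or.inr fun i => ?_⟩
    · rw [map_mul, h, Perm.sign_swap (he.ne hrs), neg_mul_neg, one_mul]
    · rw [Perm.mul_apply, hg, ← he.swap_apply, Equiv.swap_apply_self]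

/-- The placing step: certificates on the frame give a bad pair with an even conjugating element. -/
theorem exists_bad_of_frames [Fintype α] [DecidableEq α] [Finite ι] [DecidableEq ι] {p : ℕ} [Fact p.Prime]
    {u w : Perm α} {U V : Perm ι} {e f : ι → α} (he : Function.Injective e) (hf : Function.Injective f)
    (hu : ∀ i, u (e i) = e (U i)) (hw : ∀ i, w (f i) = f (V i)) {r s : ι} (hrs : r ≠ s)
    (h1 : Bad p U V) (h2 : Bad p U (Equiv.swap r s * V * (Equiv.swap r s)⁻¹)) :
    ∃ g : Perm α, Perm.sign g = 1 ∧ Bad p u (g * w * g⁻¹) := by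
  obtain ⟨g, hg, h | h⟩ := exists_even_placing he hf hrs
  · refine ⟨g, hg, h1.of_restrict he hu fun i => ?_⟩
    show g (w (g.symm (e i))) = e (V i)
    rw [show g.symm (e i) = f i by rw [← h i, Equiv.symm_apply_apply], hw, h]
  · refine ⟨g, hg, h2.of_restrict he hu fun i => ?_⟩
    show g (w (g.symm (e i))) = e ((Equiv.swap r s * V * (Equiv.swap r s)⁻¹) i)
    rw [show g.symm (e i) = f (Equiv.swap r s i) by rw [← h i, Equiv.symm_apply_apply], hw,
      ← h ((Equiv.swap r s * V * (Equiv.swap r s)⁻¹) i)]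
    simp [Perm.mul_apply, Equiv.swap_inv, Equiv.swap_apply_self]

/-- A group containing `a` of order `2` and `b` of order `3` with product of order `5` is not solvable. -/
theorem not_solvable_of_235 {G : Type*} [Group G] (S : Subgroup G) {a b : G} (ha : a ∈ S) (hb : b ∈ S)
    (h2 : a ^ 2 = 1) (h3 : b ^ 3 = 1) (h5 : (a * b) ^ 5 = 1) (hne : a ≠ 1) : ¬ Group.IsSolvable ↥S := by
  intro hs
  rw [Group.isSolvable_def] at hs
  obtain ⟨n, hn⟩ := hs
  let a' : S := ⟨a, ha⟩
  let b' : S := ⟨b, hb⟩
  have hall : ∀ k, a' ∈ derivedSeries S k ∧ b' ∈ derivedSeries S k := by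
    intro k
    induction k with
    | zero => exact ⟨Subgroup.mem_top _, Subgroup.mem_top _⟩
    | succ k ih =>
      let H := derivedSeries S k
      let x : Abelianization H := Abelianization.of ⟨a', ih.1⟩
      let y : Abelianization H := Abelianization.of ⟨b', ih.2⟩
      have e2 : x ^ 2 = 1 := by
        rw [← map_pow, show (⟨a', ih.1⟩ : H) ^ 2 = 1 from Subtype.ext (Subtype.ext h2), map_one]
      have e3 : y ^ 3 = 1 := by
        rw [← map_pow, show (⟨b', ih.2⟩ : H) ^ 3 = 1 from Subtype.ext (Subtype.ext h3), map_one]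
      have e5 : (x * y) ^ 5 = 1 := by
        rw [← map_mul, ← map_pow,
          show ((⟨a', ih.1⟩ : H) * ⟨b', ih.2⟩) ^ 5 = 1 from Subtype.ext (Subtype.ext h5), map_one]
      have ex : x = 1 := by
        have h6 : (x * y) ^ 6 = 1 := by
          rw [mul_pow, show x ^ 6 = (x ^ 2) ^ 3 from pow_mul x 2 3, show y ^ 6 = (y ^ 3) ^ 2 from pow_mul y 3 2,
            e2, e3, one_pow, one_pow, one_mul]
        have hxy : x * y = 1 := by
          calc x * y = (x * y) ^ 6 * ((x * y) ^ 5)⁻¹ := by group
            _ = 1 := by rw [h6, e5, inv_one, one_mul]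
        have hyx : y = x⁻¹ := eq_inv_of_mul_eq_one_right hxy
        rw [hyx, inv_pow, inv_eq_one] at e3
        calc x = x ^ 3 * (x ^ 2)⁻¹ := by group
          _ = 1 := by rw [e2, e3, inv_one, one_mul]
      have ey : y = 1 := by
        have h10 : (x * y) ^ 5 = y ^ 5 := by rw [ex, one_mul]
        rw [e5] at h10
        calc y = (y ^ 3) ^ 2 * (y ^ 5)⁻¹ := by group
          _ = 1 := by rw [e3, ← h10, inv_one, one_pow, one_mul]
      rw [derivedSeries_succ, ← Subgroup.map_subtype_commutator]
      exact ⟨⟨_, Abelianization.ker_of (G := H) ▸ MonoidHom.mem_ker.2 ex, rfl⟩,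
        ⟨_, Abelianization.ker_of (G := H) ▸ MonoidHom.mem_ker.2 ey, rfl⟩⟩
  have := (hall n).1
  rw [hn, Subgroup.mem_bot] at this
  exact hne (congrArg Subtype.val this)

/-- A certificate on a cyclic frame of prime power length. -/
theorem bad_translation {p a : ℕ} [Fact p.Prime] (hp2 : p ≠ 2) (ha : a ≠ 0) {V : Perm (ZMod (p ^ a))}
    (hV : ∃ k : ℕ, V ^ p ^ k = 1) {m : ℕ} (hm : m.Prime) (hmp : m ≠ p) (x : ZMod (p ^ a))
    (h1 : ((Equiv.addRight (1 : ZMod (p ^ a)) * V) ^ m) x = x) (h2 : V x + 1 ≠ x) (c d : ZMod (p ^ a))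
    (hcd : ZMod.castHom (dvd_pow_self p ha) (ZMod p) ((V c - c) - (V d - d)) ≠ 0) :
    Bad p (Equiv.addRight (1 : ZMod (p ^ a))) V := by
  have hp := (Fact.out : p.Prime)
  haveI : NeZero (p ^ a) := ⟨pow_ne_zero a hp.ne_zero⟩
  set W := Equiv.addRight (1 : ZMod (p ^ a)) * V with hW
  refine ⟨?_, fun hs => ?_⟩
  · rintro ⟨k, hk⟩
    have hd1 : Function.minimalPeriod W x ∣ m := Function.IsPeriodicPt.minimalPeriod_dvd (by
      show (⇑W)^[m] x = x
      rw [← Perm.coe_pow]; exact h1)
    have hd2 : Function.minimalPeriod W x ∣ p ^ k := Function.IsPeriodicPt.minimalPeriod_dvd (by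
      show (⇑W)^[p ^ k] x = x
      rw [← Perm.coe_pow, ← hk, pow_orderOf_eq_one]; rfl)
    have h0 : Function.minimalPeriod W x = 1 :=
      Nat.eq_one_of_dvd_coprimes (((Nat.coprime_primes hm hp).2 hmp).pow_right k) hd1 hd2
    exact h2 (Function.minimalPeriod_eq_one_iff_isFixedPt.1 h0)
  · obtain ⟨z, hz⟩ := translation_of_solvable hp2 (a := a) (by rw [Nat.card_zmod]) (g := (1 : ZMod (p ^ a)))
      (fun y => ⟨y.val, by rw [nsmul_eq_mul, mul_one, ZMod.natCast_zmod_val]⟩)
      (Subgroup.closure {Equiv.addRight (1 : ZMod (p ^ a)), V}) (Subgroup.subset_closure (by simp))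
      (Subgroup.subset_closure (by simp : V ∈ _)) hV c d
    apply hcd
    rw [← hz, map_nsmul, nsmul_eq_mul, ZMod.natCast_self, zero_mul]

end Cfsg.Lib.PElementPairs
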