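import Cfsg.Agent.Known.PElementPairs.Orbits

/-!
The pair when the longest cycle has length at least `5`.
-/

set_option autoImplicit false

namespace Cfsg.Lib.PElementPairs

open Equiv

variable {α : Type*} [Fintype α] [DecidableEq α] {p : ℕ} [Fact p.Prime]

theorem cast_ne {P i j : ℕ} (hi : i < P) (hj : j < P) (h : i ≠ j) : (i : ZMod P) ≠ (j : ZMod P) := fun e => h (by
  have := congrArg ZMod.val e
  rwa [ZMod.val_natCast_of_lt hi, ZMod.val_natCast_of_lt hj] at this)

/-- The certificate from two arcs. -/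
theorem bad_of_arcs (hp2 : p ≠ 2) {a : ℕ} (ha : a ≠ 0) {V : Perm (ZMod (p ^ a))} (hV : ∃ k : ℕ, V ^ p ^ k = 1)
    {x y : ZMod (p ^ a)} (d : ℕ) (hd : y - x = d) (hd0 : d ≠ 0) (hdp : d < 3) (hxy : y ≠ x)
    (hx : V x = y - 1) (hy : V y = x - 1) : Bad p (Equiv.addRight (1 : ZMod (p ^ a))) V := by
  have hp := (Fact.out : p.Prime)
  refine bad_translation hp2 ha hV Nat.prime_two (Ne.symm hp2) x ?_ ?_ x y ?_
  · simp [sq, Perm.mul_apply, hx, hy]
  · rw [hx, sub_add_cancel]; exact hxy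
  · rw [hx, hy, show y - 1 - x - (x - 1 - y) = (2 * d : ℕ) by push_cast; rw [← hd]; ring, map_natCast, Ne,
      CharP.cast_eq_zero_iff (ZMod p) p]
    intro h
    have h' : p ∣ d := ((Nat.coprime_primes hp Nat.prime_two).2 hp2).dvd_of_dvd_mul_left h
    have := Nat.le_of_dvd (Nat.pos_of_ne_zero hd0) h'
    have := hp.two_le
    omega

/-- The listing `0, 1, 2, 4, 3` of five residues. -/
def listing (i : ZMod (5 ^ 1)) : Fin 5 :=
  ![0, 1, 2, 4, 3] ⟨i.val % 5, Nat.mod_lt _ (by norm_num)⟩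

/-- Arithmetic on the frame of five points. -/
theorem five_facts :
    Function.Injective listing ∧
    ((2 : ZMod (5 ^ 1)) - 0 = ((2 : ℕ) : ZMod (5 ^ 1)) ∧ (1 : ZMod (5 ^ 1)) = 2 - 1 ∧
      (4 : ZMod (5 ^ 1)) = 0 - 1) ∧
    ((listing (1 : ZMod (5 ^ 1))).val =
        ((listing (0 : ZMod (5 ^ 1))).val + 1) % 5 ∧
      (listing (4 : ZMod (5 ^ 1))).val =
        ((listing (2 : ZMod (5 ^ 1))).val + 1) % 5 ∧
      (listing (3 : ZMod (5 ^ 1))).val =
        ((listing (4 : ZMod (5 ^ 1))).val + 1) % 5) ∧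
    ((3 : ZMod (5 ^ 1)) + 1 = 4 ∧ (1 : ZMod (5 ^ 1)) + 1 = 2 ∧ (4 : ZMod (5 ^ 1)) + 1 = 0 ∧
      (4 : ZMod (5 ^ 1)) ≠ 0 ∧ ((3 : ZMod (5 ^ 1)) - 0) - (4 - 2) = 1) := by
  decide

/-- `u` has a cycle of length `p ^ a ≥ 5` and the cycles of `w` are no longer. -/
theorem exists_bad_general (hp2 : p ≠ 2) {a : ℕ} (hP5 : 5 ≤ p ^ a) {u w : Perm α}
    (hw : ∃ k : ℕ, w ^ p ^ k = 1) (hw1 : w ≠ 1) {z₀ : α} (hz₀ : Function.minimalPeriod u z₀ = p ^ a)
    (hle : ∀ x, Function.minimalPeriod w x ≤ p ^ a) :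
    ∃ g : Perm α, Perm.sign g = 1 ∧ Bad p u (g * w * g⁻¹) := by
  classical
  have hp := (Fact.out : p.Prime)
  have ha : a ≠ 0 := by rintro rfl; simp at hP5
  haveI : NeZero (p ^ a) := ⟨pow_ne_zero a hp.ne_zero⟩
  obtain ⟨e, he, heu⟩ := exists_cycle_frame u z₀ hz₀ (by omega)
  have hPα : p ^ a ≤ Fintype.card α := by
    have := Fintype.card_le_of_injective e he
    rwa [ZMod.card] at this
  obtain ⟨T, -, hTinv, hTcard, hTmax⟩ := exists_invariant hw (p ^ a) Finset.univ (by simp) (by simpa using hPα)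
    (fun x _ => period_dvd_of_le hw (hle x))
  obtain ⟨z, hzT, hzmax⟩ := hTmax (by omega)
  have hqne : Function.minimalPeriod w z ≠ 1 := by
    intro h
    refine hw1 (Equiv.ext fun x => ?_)
    have h1 := hzmax x (Finset.mem_univ x)
    have h2 := period_pos hw x
    exact Function.minimalPeriod_eq_one_iff_isFixedPt.1 (by omega)
  have hwz : w z ≠ z := fun h => hqne (Function.minimalPeriod_eq_one_iff_isFixedPt.2 h)
  let W : Perm T := w.subtypePerm hTinv
  have hWk : ∃ k : ℕ, W ^ p ^ k = 1 := by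
    obtain ⟨k, hk⟩ := hw
    exact ⟨k, by simp only [W, Perm.subtypePerm_pow, hk]; ext; simp⟩
  have hcard : Fintype.card (ZMod (p ^ a)) = Fintype.card T := by rw [ZMod.card, Fintype.card_coe, hTcard]
  let f₀ : ZMod (p ^ a) ≃ T := Fintype.equivOfCardEq hcard
  -- any re-indexing gives a frame
  suffices h : ∃ f : ZMod (p ^ a) ≃ T, ∃ r s : ZMod (p ^ a), r ≠ s ∧
      Bad p (Equiv.addRight 1) ((f.trans W).trans f.symm) ∧
      Bad p (Equiv.addRight 1) (Equiv.swap r s * (f.trans W).trans f.symm * (Equiv.swap r s)⁻¹) by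
    obtain ⟨f, r, s, hrs, h1, h2⟩ := h
    exact exists_bad_of_frames he (f := fun i => ((f i : T) : α))
      (Subtype.val_injective.comp f.injective) (fun i => heu i) (fun i => by simp [W]) hrs h1 h2
  have hVk : ∀ f : ZMod (p ^ a) ≃ T, ∀ r s : ZMod (p ^ a), (∃ k : ℕ, ((f.trans W).trans f.symm) ^ p ^ k = 1) ∧
      ∃ k : ℕ, (Equiv.swap r s * (f.trans W).trans f.symm * (Equiv.swap r s)⁻¹) ^ p ^ k = 1 := by
    intro f r s
    obtain ⟨k, hk⟩ := hWk
    have h : ((f.trans W).trans f.symm) ^ p ^ k = 1 := by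
      rw [show (f.trans W).trans f.symm = f.symm.permCongrHom W from Equiv.ext fun i => by simp,
        ← map_pow, hk, map_one]
    exact ⟨⟨k, h⟩, k, by rw [conj_pow, h, mul_one, mul_inv_cancel]⟩
  have hne : ∀ i j : ℕ, i < 5 → j < 5 → i ≠ j → (i : ZMod (p ^ a)) ≠ (j : ZMod (p ^ a)) := fun i j hi hj =>
    cast_ne (lt_of_lt_of_le hi hP5) (lt_of_lt_of_le hj hP5)
  have h01 : (0 : ZMod (p ^ a)) ≠ 1 := by simpa using hne 0 1 (by omega) (by omega) (by omega)
  have h02 : (0 : ZMod (p ^ a)) ≠ 2 := by simpa using hne 0 2 (by omega) (by omega) (by omega)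
  have h12 : (1 : ZMod (p ^ a)) ≠ 2 := by simpa using hne 1 2 (by omega) (by omega) (by omega)
  have h34 : (3 : ZMod (p ^ a)) ≠ 4 := by simpa using hne 3 4 (by omega) (by omega) (by omega)
  have h03 : (0 : ZMod (p ^ a)) ≠ 3 := by simpa using hne 0 3 (by omega) (by omega) (by omega)
  have h04 : (0 : ZMod (p ^ a)) ≠ 4 := by simpa using hne 0 4 (by omega) (by omega) (by omega)
  have h13 : (1 : ZMod (p ^ a)) ≠ 3 := by simpa using hne 1 3 (by omega) (by omega) (by omega)
  have h14 : (1 : ZMod (p ^ a)) ≠ 4 := by simpa using hne 1 4 (by omega) (by omega) (by omega)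
  have h23 : (2 : ZMod (p ^ a)) ≠ 3 := by simpa using hne 2 3 (by omega) (by omega) (by omega)
  have h24 : (2 : ZMod (p ^ a)) ≠ 4 := by simpa using hne 2 4 (by omega) (by omega) (by omega)
  by_cases hfix : ∃ c ∈ T, w c = c
  · -- a fixed point in `T`
    obtain ⟨c, hcT, hwc⟩ := hfix
    let C : T := ⟨c, hcT⟩
    let Z : T := ⟨z, hzT⟩
    have hCZ : C ≠ Z := fun h => hwz (by rw [← show c = z from congrArg Subtype.val h]; exact hwc)
    have hWC : W C = C := Subtype.ext hwc
    have hWZ : W Z ≠ Z := fun h => hwz (congrArg Subtype.val h)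
    have hCWZ : C ≠ W Z := fun h => hCZ (W.injective (hWC.trans h))
    obtain ⟨f1, e1, -⟩ := adjust f₀ 1 C
    obtain ⟨f2, e2, k2⟩ := adjust f1 2 Z
    have e21 : f2 1 = C := (k2 1 h12 (by rw [e1]; exact hCZ)).trans e1
    obtain ⟨f3, e3, k3⟩ := adjust f2 0 (W Z)
    have e31 : f3 1 = C := (k3 1 h01.symm (by rw [e21]; exact hCWZ)).trans e21
    have e32 : f3 2 = Z := (k3 2 h02.symm (by rw [e2]; exact Ne.symm hWZ)).trans e2
    have hv1 : ((f3.trans W).trans f3.symm) 1 = 1 := by
      simp only [Equiv.trans_apply, Equiv.symm_apply_eq, e31, hWC]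
    have hv2 : ((f3.trans W).trans f3.symm) 2 = 0 := by
      simp only [Equiv.trans_apply, Equiv.symm_apply_eq, e32, e3]
    refine ⟨f3, 3, 4, h34, bad_of_arcs hp2 ha (hVk f3 3 4).1 (x := 1) (y := 2) 1 ?_ one_ne_zero (by omega)
      h12.symm ?_ ?_, bad_of_arcs hp2 ha (hVk f3 3 4).2 (x := 1) (y := 2) 1 ?_ one_ne_zero (by omega)
      h12.symm ?_ ?_⟩
    · norm_num
    · rw [hv1]; norm_num
    · rw [hv2]; norm_num
    · norm_num
    · rw [Perm.mul_apply, Perm.mul_apply, Equiv.swap_inv, Equiv.swap_apply_of_ne_of_ne h13 h14, hv1,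
        Equiv.swap_apply_of_ne_of_ne h13 h14]
      norm_num
    · rw [Perm.mul_apply, Perm.mul_apply, Equiv.swap_inv, Equiv.swap_apply_of_ne_of_ne h23 h24, hv2,
        Equiv.swap_apply_of_ne_of_ne h03 h04]
      norm_num
  · push_neg at hfix
    obtain ⟨j, hj⟩ := period_eq_pow hw z
    set q := Function.minimalPeriod w z with hq
    have hq3 : 3 ≤ q := by
      have hj0 : j ≠ 0 := fun h => hqne (by rw [hj, h, pow_zero])
      have hp3 : 3 ≤ p := by have := hp.two_le; omega
      calc 3 ≤ p := hp3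
        _ = p ^ 1 := (pow_one p).symm
        _ ≤ p ^ j := Nat.pow_le_pow_right hp.pos (Nat.pos_of_ne_zero hj0)
        _ = q := hj.symm
    have hitT : ∀ i : ℕ, (⇑w)^[i] z ∈ T := by
      intro i
      induction i with
      | zero => exact hzT
      | succ i ih => rw [Function.iterate_succ_apply']; exact (hTinv _).2 ih
    have hitne : ∀ i k : ℕ, i < q → k < q → i ≠ k → (⇑w)^[i] z ≠ (⇑w)^[k] z := fun i k hi hk hik h =>
      hik (Function.iterate_injOn_Iio_minimalPeriod hi hk h)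
    by_cases h5 : p ^ a = 5
    · -- degree five
      have hp5 : p = 5 := (Nat.prime_dvd_prime_iff_eq hp Nat.prime_five).1 (h5 ▸ dvd_pow_self p ha)
      have hq5 : q = 5 := by
        have h1 : q ≤ p ^ a := hle z
        have hj1 : j = 1 := by
          rcases Nat.lt_or_ge j 2 with hj2 | hj2
          · interval_cases j
            · simp at hj; omega
            · rfl
          · have : p ^ 2 ≤ p ^ j := Nat.pow_le_pow_right hp.pos hj2
            rw [← hj, hp5] at this
            omega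
        rw [hj, hj1, pow_one, hp5]
      subst hp5
      obtain rfl : a = 1 := Nat.pow_right_injective (le_refl 2) |> fun _ =>
        (Nat.pow_eq_self_iff (show 1 < 5 by omega)).1 h5
      let L : Fin 5 → T := fun i => ⟨(⇑w)^[i.val] z, hitT _⟩
      obtain ⟨hπ, ⟨t20, t21, t01⟩, ⟨pv0, pv2, pv4⟩, t34, t12, t40, t4, td⟩ := five_facts
      let π : ZMod (5 ^ 1) → Fin 5 := listing
      have hinj : Function.Injective fun i => L (π i) := by
        intro i k h
        refine hπ (Fin.ext ?_)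
        by_contra hik
        exact hitne (π i).val (π k).val (by omega) (by omega) hik (congrArg Subtype.val h)
      have hbij := (Fintype.bijective_iff_injective_and_card _).2 ⟨hinj, hcard⟩
      let f : ZMod (5 ^ 1) ≃ T := Equiv.ofBijective _ hbij
      have hW : ∀ i : ZMod (5 ^ 1), ((f i : T) : α) = (⇑w)^[(π i).val] z := fun i => rfl
      have hv : ∀ i k : ZMod (5 ^ 1), (π k).val = ((π i).val + 1) % 5 → ((f.trans W).trans f.symm) i = k := by
        intro i k h
        simp only [Equiv.trans_apply, Equiv.symm_apply_eq]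
        refine Subtype.ext ?_
        show w (f i : α) = (f k : α)
        rw [hW, hW, h, ← Function.iterate_succ_apply' (⇑w)]
        have hmod := Function.iterate_mod_minimalPeriod_eq (f := ⇑w) (x := z) (n := (π i).val + 1)
        rw [← hq, hq5] at hmod
        exact hmod.symm
      refine ⟨f, 1, 3, h13, bad_of_arcs hp2 ha (hVk f 1 3).1 (x := 0) (y := 2) 2 t20 two_ne_zero
        (by omega) h02.symm ((hv 0 1 pv0).trans t21) ((hv 2 4 pv2).trans t01), ?_⟩
      set X : Perm (ZMod (5 ^ 1)) := Equiv.swap 1 3 * (f.trans W).trans f.symm * (Equiv.swap 1 3)⁻¹ with hX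
      have w0 : X 0 = 3 := by
        rw [hX, Perm.mul_apply, Perm.mul_apply, Equiv.swap_inv, Equiv.swap_apply_of_ne_of_ne h01 h03,
          hv 0 1 pv0, Equiv.swap_apply_left]
      have w2 : X 2 = 4 := by
        rw [hX, Perm.mul_apply, Perm.mul_apply, Equiv.swap_inv, Equiv.swap_apply_of_ne_of_ne h12.symm h23,
          hv 2 4 pv2, Equiv.swap_apply_of_ne_of_ne h14.symm h34.symm]
      have w4 : X 4 = 1 := by
        rw [hX, Perm.mul_apply, Perm.mul_apply, Equiv.swap_inv, Equiv.swap_apply_of_ne_of_ne h14.symm h34.symm,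
          hv 4 3 pv4, Equiv.swap_apply_right]
      refine bad_translation hp2 ha (hVk f 1 3).2 Nat.prime_three (by omega) 0 ?_ ?_ 0 2 ?_
      · show X (X (X 0 + 1) + 1) + 1 = 0
        rw [w0, t34, w4, t12, w2, t40]
      · show X 0 + 1 ≠ 0
        rw [w0, t34]; exact t4
      · show ZMod.castHom _ _ ((X 0 - 0) - (X 2 - 2)) ≠ 0
        rw [w0, w2, td, map_one]; exact one_ne_zero
    · have hP7 : 7 ≤ p ^ a := by
        have h6 : p ^ a ≠ 6 := fun h => by
          have h1 : 2 ∣ p ^ a := h ▸ by norm_num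
          exact hp2 ((Nat.prime_dvd_prime_iff_eq Nat.prime_two hp).1 (Nat.prime_two.dvd_of_dvd_pow h1)).symm
        omega
      -- a second moved point
      obtain ⟨c, hcT, hc1, hc2, hc3⟩ : ∃ c ∈ T, c ≠ z ∧ c ≠ w z ∧ w c ≠ z := by
        by_cases hq4 : 4 ≤ q
        · exact ⟨(⇑w)^[2] z, hitT 2, hitne 2 0 (by omega) (by omega) (by omega),
            hitne 2 1 (by omega) (by omega) (by omega),
            fun h => hitne 3 0 (by omega) (by omega) (by omega) (by rw [Function.iterate_succ_apply']; exact h)⟩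
        · obtain ⟨c, hcT, hc⟩ := Finset.exists_mem_notMem_of_card_lt_card
            (show (cyc w z).card < T.card by rw [card_cyc, hTcard]; omega)
          refine ⟨c, hcT, fun h => hc ?_, fun h => hc ?_, fun h => hc ?_⟩
          · exact h ▸ self_mem_cyc hw z
          · exact h ▸ (mem_cyc_iff hw z z).2 (self_mem_cyc hw z)
          · exact (mem_cyc_iff hw z c).1 (h.symm ▸ self_mem_cyc hw z)
      let C : T := ⟨c, hcT⟩
      let Z : T := ⟨z, hzT⟩
      have hWZ : W Z ≠ Z := fun h => hwz (congrArg Subtype.val h)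
      have hWC : W C ≠ C := fun h => hfix c hcT (congrArg Subtype.val h)
      have hCZ : C ≠ Z := fun h => hc1 (congrArg Subtype.val h)
      have hCWZ : C ≠ W Z := fun h => hc2 (congrArg Subtype.val h)
      have hWCZ : W C ≠ Z := fun h => hc3 (congrArg Subtype.val h)
      have hWCWZ : W C ≠ W Z := W.injective.ne hCZ
      set m : ZMod (p ^ a) := -1 with hm
      have hm' : m = ((p ^ a - 1 : ℕ) : ZMod (p ^ a)) := by
        rw [hm, Nat.cast_sub (by omega), ZMod.natCast_self, zero_sub, Nat.cast_one]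
      have hmne : ∀ i : ℕ, i < 5 → (i : ZMod (p ^ a)) ≠ m := fun i hi => by
        rw [hm']; exact cast_ne (by omega) (by omega) (by omega)
      have m0 : (0 : ZMod (p ^ a)) ≠ m := by simpa using hmne 0 (by omega)
      have m1 : (1 : ZMod (p ^ a)) ≠ m := by simpa using hmne 1 (by omega)
      have m2 : (2 : ZMod (p ^ a)) ≠ m := by simpa using hmne 2 (by omega)
      have m3 : (3 : ZMod (p ^ a)) ≠ m := by simpa using hmne 3 (by omega)
      have m4 : (4 : ZMod (p ^ a)) ≠ m := by simpa using hmne 4 (by omega)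
      obtain ⟨f1, e1, -⟩ := adjust f₀ 0 Z
      obtain ⟨f2, e2, k2⟩ := adjust f1 1 (W Z)
      have e20 : f2 0 = Z := (k2 0 h01 (by rw [e1]; exact hWZ.symm)).trans e1
      obtain ⟨f3, e3, k3⟩ := adjust f2 2 C
      have e30 : f3 0 = Z := (k3 0 h02 (by rw [e20]; exact hCZ.symm)).trans e20
      have e31 : f3 1 = W Z := (k3 1 h12 (by rw [e2]; exact hCWZ.symm)).trans e2
      obtain ⟨f4, e4, k4⟩ := adjust f3 m (W C)
      have e40 : f4 0 = Z := (k4 0 m0 (by rw [e30]; exact hWCZ.symm)).trans e30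
      have e41 : f4 1 = W Z := (k4 1 m1 (by rw [e31]; exact hWCWZ.symm)).trans e31
      have e42 : f4 2 = C := (k4 2 m2 (by rw [e3]; exact hWC.symm)).trans e3
      have hv0 : ((f4.trans W).trans f4.symm) 0 = 1 := by
        simp only [Equiv.trans_apply, Equiv.symm_apply_eq, e40, e41]
      have hv2 : ((f4.trans W).trans f4.symm) 2 = m := by
        simp only [Equiv.trans_apply, Equiv.symm_apply_eq, e42, e4]
      refine ⟨f4, 3, 4, h34, bad_of_arcs hp2 ha (hVk f4 3 4).1 (x := 0) (y := 2) 2 ?_ two_ne_zero (by omega)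
        h02.symm ?_ ?_, bad_of_arcs hp2 ha (hVk f4 3 4).2 (x := 0) (y := 2) 2 ?_ two_ne_zero (by omega)
        h02.symm ?_ ?_⟩
      · simp
      · rw [hv0]; norm_num
      · rw [hv2, hm]; simp
      · simp
      · rw [Perm.mul_apply, Perm.mul_apply, Equiv.swap_inv, Equiv.swap_apply_of_ne_of_ne h03 h04, hv0,
          Equiv.swap_apply_of_ne_of_ne h13 h14]
        norm_num
      · rw [Perm.mul_apply, Perm.mul_apply, Equiv.swap_inv, Equiv.swap_apply_of_ne_of_ne h23 h24, hv2,
          Equiv.swap_apply_of_ne_of_ne m3.symm m4.symm, hm]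
        simp

end Cfsg.Lib.PElementPairs
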