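import Cfsg.Agent.Known.PElementPairs.Orbits

/-!
The pair when all cycles have length `3`.
-/

set_option autoImplicit false

namespace Cfsg.Lib.PElementPairs

open Equiv

/-- The permutation with the given values and inverse values. -/
def mkPerm {n : ℕ} (f g : Fin n → Fin n) (h1 : ∀ i, g (f i) = i) (h2 : ∀ i, f (g i) = i) : Perm (Fin n) :=
  ⟨f, g, h1, h2⟩

/-- One `3`-cycle on five points. -/
def c5 : Perm (Fin 5) := mkPerm ![1, 2, 0, 3, 4] ![2, 0, 1, 3, 4] (by decide) (by decide)
/-- One `3`-cycle on six points. -/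
def c6 : Perm (Fin 6) := mkPerm ![1, 2, 0, 3, 4, 5] ![2, 0, 1, 3, 4, 5] (by decide) (by decide)
/-- Two `3`-cycles. -/
def d6 : Perm (Fin 6) := mkPerm ![1, 2, 0, 4, 5, 3] ![2, 0, 1, 5, 3, 4] (by decide) (by decide)

/-- The partner of `c5`. -/
def v5 : Perm (Fin 5) := mkPerm ![3, 1, 2, 4, 0] ![4, 1, 2, 0, 3] (by decide) (by decide)
/-- The partner for one against one cycle. -/
def v11 : Perm (Fin 6) := mkPerm ![3, 1, 2, 4, 0, 5] ![4, 1, 2, 0, 3, 5] (by decide) (by decide)
/-- The partner for one against two cycles. -/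
def v12 : Perm (Fin 6) := mkPerm ![1, 3, 5, 0, 2, 4] ![3, 0, 4, 1, 5, 2] (by decide) (by decide)
/-- The partner for two cycles against one. -/
def v21 : Perm (Fin 6) := mkPerm ![1, 3, 2, 0, 4, 5] ![3, 0, 2, 1, 4, 5] (by decide) (by decide)

theorem bad_of_words {n : ℕ} {U V a b : Perm (Fin n)} (m : ℕ) (hm : (U * V) ^ m = 1) (hm0 : U * V ≠ 1)
    (hm3 : ¬ 3 ∣ m) (ha : a ∈ Subgroup.closure ({U, V} : Set (Perm (Fin n))))
    (hb : b ∈ Subgroup.closure ({U, V} : Set (Perm (Fin n)))) (h2 : a ^ 2 = 1) (h3 : b ^ 3 = 1)
    (h5 : (a * b) ^ 5 = 1) (hne : a ≠ 1) : Bad 3 U V := by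
  refine ⟨?_, not_solvable_of_235 _ ha hb h2 h3 h5 hne⟩
  rintro ⟨k, hk⟩
  have hd := orderOf_dvd_of_pow_eq_one hm
  rw [hk] at hd
  rcases Nat.eq_zero_or_pos k with rfl | hk0
  · exact hm0 (orderOf_eq_one_iff.1 (by simpa using hk))
  · exact hm3 ((dvd_pow_self 3 hk0.ne').trans hd)

section

variable {n : ℕ} {U V : Perm (Fin n)}

theorem bad_of_word5 (hm : (U * V) ^ 5 = 1) (hm0 : U * V ≠ 1) (h2 : (U * U * V * U * V) ^ 2 = 1) (h3 : U ^ 3 = 1)
    (h5 : (U * U * V * U * V * U) ^ 5 = 1) (hne : U * U * V * U * V ≠ 1) : Bad 3 U V :=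
  have hU : U ∈ Subgroup.closure ({U, V} : Set (Perm (Fin n))) := Subgroup.subset_closure (by simp)
  have hV : V ∈ Subgroup.closure ({U, V} : Set (Perm (Fin n))) := Subgroup.subset_closure (by simp)
  bad_of_words 5 hm hm0 (by norm_num) (mul_mem (mul_mem (mul_mem (mul_mem hU hU) hV) hU) hV) hU h2 h3 h5 hne

theorem bad_of_word4 (hm : (U * V) ^ 4 = 1) (hm0 : U * V ≠ 1) (h2 : (U * V * U * V) ^ 2 = 1) (h3 : U ^ 3 = 1)
    (h5 : (U * V * U * V * U) ^ 5 = 1) (hne : U * V * U * V ≠ 1) : Bad 3 U V :=
  have hU : U ∈ Subgroup.closure ({U, V} : Set (Perm (Fin n))) := Subgroup.subset_closure (by simp)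
  have hV : V ∈ Subgroup.closure ({U, V} : Set (Perm (Fin n))) := Subgroup.subset_closure (by simp)
  bad_of_words 4 hm hm0 (by norm_num) (mul_mem (mul_mem (mul_mem hU hV) hU) hV) hU h2 h3 h5 hne

end

set_option maxRecDepth 4000 in
theorem bad55 : Bad 3 c5 v5 ∧ Bad 3 c5 (Equiv.swap 1 2 * v5 * (Equiv.swap 1 2)⁻¹) :=
  ⟨bad_of_word5 (by decide) (by decide) (by decide) (by decide) (by decide) (by decide),
   bad_of_word5 (by decide) (by decide) (by decide) (by decide) (by decide) (by decide)⟩

set_option maxRecDepth 4000 in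
theorem bad11 : Bad 3 c6 v11 ∧ Bad 3 c6 (Equiv.swap 2 5 * v11 * (Equiv.swap 2 5)⁻¹) :=
  ⟨bad_of_word5 (by decide) (by decide) (by decide) (by decide) (by decide) (by decide),
   bad_of_word5 (by decide) (by decide) (by decide) (by decide) (by decide) (by decide)⟩

set_option maxRecDepth 4000 in
theorem bad12 : Bad 3 c6 v12 ∧ Bad 3 c6 (Equiv.swap 4 5 * v12 * (Equiv.swap 4 5)⁻¹) :=
  ⟨bad_of_word4 (by decide) (by decide) (by decide) (by decide) (by decide) (by decide),
   bad_of_word4 (by decide) (by decide) (by decide) (by decide) (by decide) (by decide)⟩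

set_option maxRecDepth 4000 in
theorem bad21 : Bad 3 d6 v21 ∧ Bad 3 d6 (Equiv.swap 4 5 * v21 * (Equiv.swap 4 5)⁻¹) :=
  ⟨bad_of_word4 (by decide) (by decide) (by decide) (by decide) (by decide) (by decide),
   bad_of_word4 (by decide) (by decide) (by decide) (by decide) (by decide) (by decide)⟩

set_option maxRecDepth 4000 in
theorem bad22 : Bad 3 d6 v12 ∧ Bad 3 d6 (Equiv.swap 0 4 * v12 * (Equiv.swap 0 4)⁻¹) :=
  ⟨bad_of_word5 (by decide) (by decide) (by decide) (by decide) (by decide) (by decide),
   bad_of_word5 (by decide) (by decide) (by decide) (by decide) (by decide) (by decide)⟩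

variable {α : Type*} [Fintype α] [DecidableEq α]

/-- A frame of five or six points for a permutation whose cycles have length at most `3`. -/
theorem exists_frame {u : Perm α} (hu3 : u ^ 3 = 1) (hu1 : u ≠ 1) (hn : 5 ≤ Fintype.card α) :
    (Fintype.card α = 5 ∧ ∃ e : Fin 5 → α, Function.Injective e ∧ ∀ i, u (e i) = e (c5 i)) ∨
    (6 ≤ Fintype.card α ∧ ∃ e : Fin 6 → α, Function.Injective e ∧
      ((∀ i, u (e i) = e (c6 i)) ∨ ∀ i, u (e i) = e (d6 i))) := by
  classical
  have h3 : ∀ x, u (u (u x)) = x := fun x => by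
    have := congrArg (fun g : Perm α => g x) hu3
    simpa [pow_succ, Perm.mul_apply] using this
  obtain ⟨z, hz⟩ : ∃ z, u z ≠ z := by
    by_contra! h; exact hu1 (Equiv.ext h)
  have hd : ∀ z, u z ≠ z → u (u z) ≠ z ∧ u (u z) ≠ u z := fun z hz =>
    ⟨fun h => hz (by have := h3 z; rw [h] at this; exact this), u.injective.ne hz⟩
  obtain ⟨z2, z21⟩ := hd z hz
  let O : Finset α := {z, u z, u (u z)}
  have hOu : ∀ x, u x ∈ O → x ∈ O := by
    intro x hx
    simp only [O, Finset.mem_insert, Finset.mem_singleton] at hx ⊢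
    rcases hx with h | h | h
    · exact Or.inr (Or.inr (u.injective (h.trans (h3 z).symm)))
    · exact Or.inl (u.injective h)
    · exact Or.inr (Or.inl (u.injective h))
  have hO3 : O.card = 3 := Finset.card_eq_three.2 ⟨z, u z, u (u z), hz.symm, z2.symm, z21.symm, rfl⟩
  by_cases hc : ∃ c, u c ≠ c ∧ c ∉ O
  · obtain ⟨c, hc, hcO⟩ := hc
    obtain ⟨c2, c21⟩ := hd c hc
    have hucO : u c ∉ O := fun h => hcO (hOu _ h)
    have huucO : u (u c) ∉ O := fun h => hucO (hOu _ h)
    simp only [O, Finset.mem_insert, Finset.mem_singleton, not_or] at hcO hucO huucO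
    obtain ⟨a1, a2, a3⟩ := hcO
    obtain ⟨b1, b2, b3⟩ := hucO
    obtain ⟨d1, d2, d3⟩ := huucO
    have hinj : Function.Injective ![z, u z, u (u z), c, u c, u (u c)] := by
      intro i j h
      fin_cases i <;> fin_cases j <;>
        simp only [Fin.zero_eta, Fin.mk_one, Fin.reduceFinMk, Matrix.cons_val] at h ⊢ <;>
        first
          | rfl
          | exact absurd h hz | exact absurd h.symm hz
          | exact absurd h z2 | exact absurd h.symm z2
          | exact absurd h z21 | exact absurd h.symm z21
          | exact absurd h hc | exact absurd h.symm hc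
          | exact absurd h c2 | exact absurd h.symm c2
          | exact absurd h c21 | exact absurd h.symm c21
          | exact absurd h a1 | exact absurd h.symm a1
          | exact absurd h a2 | exact absurd h.symm a2
          | exact absurd h a3 | exact absurd h.symm a3
          | exact absurd h b1 | exact absurd h.symm b1
          | exact absurd h b2 | exact absurd h.symm b2
          | exact absurd h b3 | exact absurd h.symm b3
          | exact absurd h d1 | exact absurd h.symm d1
          | exact absurd h d2 | exact absurd h.symm d2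
          | exact absurd h d3 | exact absurd h.symm d3
    refine Or.inr ⟨?_, _, hinj, Or.inr fun i => ?_⟩
    · simpa using Fintype.card_le_of_injective _ hinj
    · fin_cases i <;> first | rfl | exact h3 _
  · push_neg at hc
    have hfix : ∀ x ∈ Oᶜ, u x = x := fun x hx => by
      by_contra h
      exact Finset.mem_compl.1 hx (hc x h)
    have hcompl : Oᶜ.card = Fintype.card α - 3 := by rw [Finset.card_compl, hO3]
    by_cases h5 : Fintype.card α = 5
    · obtain ⟨a, b, hab, hO⟩ := Finset.card_eq_two.1 (show Oᶜ.card = 2 by omega)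
      have ha : a ∈ Oᶜ := by simp [hO]
      have hb : b ∈ Oᶜ := by simp [hO]
      have ha' := hfix a ha
      have hb' := hfix b hb
      rw [Finset.mem_compl] at ha hb
      simp only [O, Finset.mem_insert, Finset.mem_singleton, not_or] at ha hb
      obtain ⟨a1, a2, a3⟩ := ha
      obtain ⟨b1, b2, b3⟩ := hb
      refine Or.inl ⟨h5, ![z, u z, u (u z), a, b], ?_, fun i => ?_⟩
      · intro i j h
        fin_cases i <;> fin_cases j <;>
          simp only [Fin.zero_eta, Fin.mk_one, Fin.reduceFinMk, Matrix.cons_val] at h ⊢ <;>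
          first
            | rfl
            | exact absurd h hz | exact absurd h.symm hz
            | exact absurd h z2 | exact absurd h.symm z2
            | exact absurd h z21 | exact absurd h.symm z21
            | exact absurd h hab | exact absurd h.symm hab
            | exact absurd h a1 | exact absurd h.symm a1
            | exact absurd h a2 | exact absurd h.symm a2
            | exact absurd h a3 | exact absurd h.symm a3
            | exact absurd h b1 | exact absurd h.symm b1
            | exact absurd h b2 | exact absurd h.symm b2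
            | exact absurd h b3 | exact absurd h.symm b3
      · fin_cases i <;> first | rfl | exact h3 _ | exact ha' | exact hb'
    · obtain ⟨S, hS, hS3⟩ := Finset.exists_subset_card_eq (show 3 ≤ Oᶜ.card by omega)
      obtain ⟨a, b, c, hab, hac, hbc, rfl⟩ := Finset.card_eq_three.1 hS3
      have ha := hS (show a ∈ _ by simp)
      have hb := hS (show b ∈ _ by simp)
      have hc0 := hS (show c ∈ _ by simp)
      have ha' := hfix a ha
      have hb' := hfix b hb
      have hc' := hfix c hc0
      rw [Finset.mem_compl] at ha hb hc0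
      simp only [O, Finset.mem_insert, Finset.mem_singleton, not_or] at ha hb hc0
      obtain ⟨a1, a2, a3⟩ := ha
      obtain ⟨b1, b2, b3⟩ := hb
      obtain ⟨d1, d2, d3⟩ := hc0
      refine Or.inr ⟨by omega, ![z, u z, u (u z), a, b, c], ?_, Or.inl fun i => ?_⟩
      · intro i j h
        fin_cases i <;> fin_cases j <;>
          simp only [Fin.zero_eta, Fin.mk_one, Fin.reduceFinMk, Matrix.cons_val] at h ⊢ <;>
          first
            | rfl
            | exact absurd h hz | exact absurd h.symm hz
            | exact absurd h z2 | exact absurd h.symm z2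
            | exact absurd h z21 | exact absurd h.symm z21
            | exact absurd h hab | exact absurd h.symm hab
            | exact absurd h hac | exact absurd h.symm hac
            | exact absurd h hbc | exact absurd h.symm hbc
            | exact absurd h a1 | exact absurd h.symm a1
            | exact absurd h a2 | exact absurd h.symm a2
            | exact absurd h a3 | exact absurd h.symm a3
            | exact absurd h b1 | exact absurd h.symm b1
            | exact absurd h b2 | exact absurd h.symm b2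
            | exact absurd h b3 | exact absurd h.symm b3
            | exact absurd h d1 | exact absurd h.symm d1
            | exact absurd h d2 | exact absurd h.symm d2
            | exact absurd h d3 | exact absurd h.symm d3
      · fin_cases i <;> first | rfl | exact h3 _ | exact ha' | exact hb' | exact hc'

/-- All cycles of length at most `3`. -/
theorem exists_bad_three {u w : Perm α} (hu3 : u ^ 3 = 1) (hu1 : u ≠ 1) (hw3 : w ^ 3 = 1) (hw1 : w ≠ 1)
    (hn : 5 ≤ Fintype.card α) : ∃ g : Perm α, Perm.sign g = 1 ∧ Bad 3 u (g * w * g⁻¹) := by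
  haveI : Fact (Nat.Prime 3) := ⟨Nat.prime_three⟩
  rcases exists_frame hu3 hu1 hn with ⟨h5, e, he, heu⟩ | ⟨h6, e, he, heu⟩ <;>
    rcases exists_frame hw3 hw1 hn with ⟨h5', f, hf, hfw⟩ | ⟨h6', f, hf, hfw⟩
  · let L : Fin 5 → Fin 5 := ![0, 3, 4, 1, 2]
    refine exists_bad_of_frames he (hf.comp (show Function.Injective L by decide)) heu (V := v5) (fun i => ?_)
      (show (1 : Fin 5) ≠ 2 by decide) bad55.1 bad55.2
    show w (f (L i)) = f (L (v5 i))
    rw [hfw, (show ∀ i, L (v5 i) = c5 (L i) by decide) i]
  · omega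
  · omega
  · rcases heu with heu | heu <;> rcases hfw with hfw | hfw
    · let L : Fin 6 → Fin 6 := ![0, 3, 4, 1, 2, 5]
      refine exists_bad_of_frames he (hf.comp (show Function.Injective L by decide)) heu (V := v11) (fun i => ?_)
        (show (2 : Fin 6) ≠ 5 by decide) bad11.1 bad11.2
      show w (f (L i)) = f (L (v11 i))
      rw [hfw, (show ∀ i, L (v11 i) = c6 (L i) by decide) i]
    · let L : Fin 6 → Fin 6 := ![0, 1, 3, 2, 5, 4]
      refine exists_bad_of_frames he (hf.comp (show Function.Injective L by decide)) heu (V := v12) (fun i => ?_)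
        (show (4 : Fin 6) ≠ 5 by decide) bad12.1 bad12.2
      show w (f (L i)) = f (L (v12 i))
      rw [hfw, (show ∀ i, L (v12 i) = d6 (L i) by decide) i]
    · let L : Fin 6 → Fin 6 := ![0, 1, 3, 2, 5, 4]
      refine exists_bad_of_frames he (hf.comp (show Function.Injective L by decide)) heu (V := v21) (fun i => ?_)
        (show (4 : Fin 6) ≠ 5 by decide) bad21.1 bad21.2
      show w (f (L i)) = f (L (v21 i))
      rw [hfw, (show ∀ i, L (v21 i) = c6 (L i) by decide) i]
    · let L : Fin 6 → Fin 6 := ![0, 1, 3, 2, 5, 4]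
      refine exists_bad_of_frames he (hf.comp (show Function.Injective L by decide)) heu (V := v12) (fun i => ?_)
        (show (0 : Fin 6) ≠ 4 by decide) bad22.1 bad22.2
      show w (f (L i)) = f (L (v12 i))
      rw [hfw, (show ∀ i, L (v12 i) = d6 (L i) by decide) i]

end Cfsg.Lib.PElementPairs
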