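import Cfsg.Agent.Known.PElementPairs.General
import Cfsg.Agent.Known.PElementPairs.Three

/-!
Two non-trivial `p`-elements of an alternating group, `p` odd: some conjugates form a bad pair.
-/

set_option autoImplicit false

namespace Cfsg.Lib.PElementPairs

open Equiv

variable {α : Type*} [Fintype α] [DecidableEq α] {p : ℕ} [Fact p.Prime]

theorem exists_bad_ordered (hp2 : p ≠ 2) (hn : 5 ≤ Fintype.card α) {u w : Perm α}
    (hu : ∃ k : ℕ, u ^ p ^ k = 1) (hw : ∃ k : ℕ, w ^ p ^ k = 1) (hw1 : w ≠ 1) (hu1 : u ≠ 1) {z₀ : α}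
    (humax : ∀ x, Function.minimalPeriod u x ≤ Function.minimalPeriod u z₀)
    (hwle : ∀ x, Function.minimalPeriod w x ≤ Function.minimalPeriod u z₀) :
    ∃ g : Perm α, Perm.sign g = 1 ∧ Bad p u (g * w * g⁻¹) := by
  have hp := (Fact.out : p.Prime)
  obtain ⟨a, ha⟩ := period_eq_pow hu z₀
  by_cases h5 : 5 ≤ p ^ a
  · exact exists_bad_general hp2 h5 hw hw1 ha fun x => ha ▸ hwle x
  have ha0 : a ≠ 0 := by
    rintro rfl
    refine hu1 (Equiv.ext fun x => ?_)
    have h1 := humax x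
    rw [ha, pow_zero] at h1
    have h2 := period_pos hu x
    exact Function.minimalPeriod_eq_one_iff_isFixedPt.1 (by omega)
  have hp3 : p = 3 := by
    have h1 : p ≤ p ^ a := Nat.le_self_pow ha0 p
    have h2 := hp.two_le
    rcases (show p = 3 ∨ p = 4 by omega) with h | h
    · exact h
    · exact absurd (h ▸ hp) (by norm_num)
  subst hp3
  have ha1 : a = 1 := by
    by_contra h
    have : 3 ^ 2 ≤ 3 ^ a := Nat.pow_le_pow_right (by norm_num) (by omega)
    omega
  subst ha1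
  have hcube : ∀ {v : Perm α}, (∃ k : ℕ, v ^ 3 ^ k = 1) → (∀ x, Function.minimalPeriod v x ≤ 3 ^ 1) → v ^ 3 = 1 := by
    intro v hv hle
    refine Equiv.ext fun x => ?_
    rw [Perm.coe_pow]
    exact ((Function.isPeriodicPt_minimalPeriod v x).trans_dvd (period_dvd_of_le hv (hle x)) : _)
  exact exists_bad_three (hcube hu fun x => ha ▸ humax x) hu1 (hcube hw fun x => ha ▸ hwle x) hw1 hn

theorem exists_bad (hp2 : p ≠ 2) (hn : 5 ≤ Fintype.card α) {u w : Perm α} (hu : ∃ k : ℕ, u ^ p ^ k = 1)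
    (hw : ∃ k : ℕ, w ^ p ^ k = 1) (hu1 : u ≠ 1) (hw1 : w ≠ 1) :
    ∃ g : Perm α, Perm.sign g = 1 ∧ Bad p u (g * w * g⁻¹) := by
  haveI : Nonempty α := Fintype.card_pos_iff.1 (by omega)
  obtain ⟨x₀, -, hx₀⟩ := Finset.exists_max_image Finset.univ (Function.minimalPeriod u) Finset.univ_nonempty
  obtain ⟨y₀, -, hy₀⟩ := Finset.exists_max_image Finset.univ (Function.minimalPeriod w) Finset.univ_nonempty
  rcases le_total (Function.minimalPeriod w y₀) (Function.minimalPeriod u x₀) with h | h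
  · exact exists_bad_ordered hp2 hn hu hw hw1 hu1 (fun x => hx₀ x (Finset.mem_univ _))
      fun x => (hy₀ x (Finset.mem_univ _)).trans h
  · obtain ⟨g, hg, hbad⟩ := exists_bad_ordered hp2 hn hw hu hu1 hw1 (fun x => hy₀ x (Finset.mem_univ _))
      fun x => (hx₀ x (Finset.mem_univ _)).trans h
    refine ⟨g⁻¹, by rw [map_inv, hg, inv_one], ?_⟩
    have h' := hbad.symm.conj g⁻¹
    rwa [show g⁻¹ * (g * u * g⁻¹) * g⁻¹⁻¹ = u by group, inv_inv] at h'

theorem exists_pair (hp2 : p ≠ 2) (hn : 5 ≤ Fintype.card α) (u w : alternatingGroup α) (hu : u ≠ 1) (hw : w ≠ 1)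
    (hu' : ∃ k : ℕ, orderOf u = p ^ k) (hw' : ∃ k : ℕ, orderOf w = p ^ k) :
    ∃ g : alternatingGroup α, (¬ ∃ k : ℕ, orderOf (u * (g * w * g⁻¹)) = p ^ k) ∧
      ¬ Group.IsSolvable ↥(Subgroup.closure ({u, g * w * g⁻¹} : Set (alternatingGroup α))) := by
  have hpow : ∀ x : alternatingGroup α, (∃ k : ℕ, orderOf x = p ^ k) → ∃ k : ℕ, (x : Perm α) ^ p ^ k = 1 :=
    fun x ⟨k, hk⟩ => ⟨k, by rw [← hk, ← SubmonoidClass.coe_pow, pow_orderOf_eq_one]; rfl⟩
  obtain ⟨g, hg, hbad1, hbad2⟩ := exists_bad hp2 hn (hpow u hu') (hpow w hw')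
    (fun h => hu (Subtype.ext h)) (fun h => hw (Subtype.ext h))
  refine ⟨⟨g, hg⟩, ?_, fun hs => hbad2 ?_⟩
  · rintro ⟨k, hk⟩
    exact hbad1 ⟨k, by rw [← Subgroup.orderOf_coe] at hk; exact hk⟩
  · let W : alternatingGroup α := ⟨g, hg⟩ * w * ⟨g, hg⟩⁻¹
    have hmap : (Subgroup.closure ({u, W} : Set (alternatingGroup α))).map (alternatingGroup α).subtype =
        Subgroup.closure ({(u : Perm α), g * w * g⁻¹} : Set (Perm α)) := by
      rw [MonoidHom.map_closure, Set.image_pair]; rfl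
    haveI := hs
    have : Group.IsSolvable ↥((Subgroup.closure ({u, W} : Set (alternatingGroup α))).map
        (alternatingGroup α).subtype) :=
      Group.isSolvable_of_surjective (MonoidHom.subgroupMap_surjective (alternatingGroup α).subtype _)
    rwa [hmap] at this

end Cfsg.Lib.PElementPairs
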