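import Cfsg.Agent.Known.PElementPairs.Basic

/-!
Periods and invariant sets of a permutation of `p`-power order.
-/

set_option autoImplicit false

namespace Cfsg.Lib.PElementPairs

open Equiv

variable {α : Type*} [Fintype α] [DecidableEq α] {p : ℕ} [Fact p.Prime] {w : Perm α}

omit [Fintype α] [DecidableEq α] [Fact p.Prime] in
theorem iterate_period (w : Perm α) (x : α) : (w ^ Function.minimalPeriod w x) x = x := by
  rw [Perm.coe_pow]; exact Function.iterate_minimalPeriod

omit [Fintype α] [DecidableEq α] in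
theorem period_eq_pow (hw : ∃ k : ℕ, w ^ p ^ k = 1) (x : α) : ∃ j, Function.minimalPeriod w x = p ^ j := by
  obtain ⟨k, hk⟩ := hw
  have h : Function.minimalPeriod w x ∣ p ^ k := Function.IsPeriodicPt.minimalPeriod_dvd (by
    show (⇑w)^[p ^ k] x = x
    rw [← Perm.coe_pow, hk]; rfl)
  obtain ⟨j, -, hj⟩ := (Nat.dvd_prime_pow (Fact.out : p.Prime)).1 h
  exact ⟨j, hj⟩

omit [Fintype α] [DecidableEq α] in
theorem period_dvd_of_le (hw : ∃ k : ℕ, w ^ p ^ k = 1) {x : α} {b : ℕ}
    (h : Function.minimalPeriod w x ≤ p ^ b) : Function.minimalPeriod w x ∣ p ^ b := by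
  obtain ⟨j, hj⟩ := period_eq_pow hw x
  rw [hj] at h ⊢
  exact pow_dvd_pow p ((Nat.pow_le_pow_iff_right (Fact.out : p.Prime).one_lt).1 h)

omit [Fintype α] [DecidableEq α] in
theorem period_pos (hw : ∃ k : ℕ, w ^ p ^ k = 1) (x : α) : 0 < Function.minimalPeriod w x := by
  obtain ⟨j, hj⟩ := period_eq_pow hw x
  rw [hj]; exact pow_pos (Fact.out : p.Prime).pos j

/-- The points of the cycle through `x`. -/
noncomputable def cyc (w : Perm α) (x : α) : Finset α := (Finset.range (Function.minimalPeriod w x)).image fun i => (⇑w)^[i] x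

omit [Fintype α] [Fact p.Prime] in
theorem card_cyc (w : Perm α) (x : α) : (cyc w x).card = Function.minimalPeriod w x := by
  rw [cyc, Finset.card_image_of_injOn, Finset.card_range]
  intro i hi j hj h
  exact Function.iterate_injOn_Iio_minimalPeriod (Finset.mem_range.1 hi) (Finset.mem_range.1 hj) h

omit [Fintype α] [Fact p.Prime] in
theorem iterate_mem_cyc {x : α} (hx : 0 < Function.minimalPeriod w x) (i : ℕ) : (⇑w)^[i] x ∈ cyc w x :=
  Finset.mem_image.2 ⟨i % Function.minimalPeriod w x, Finset.mem_range.2 (Nat.mod_lt _ hx),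
    Function.iterate_mod_minimalPeriod_eq⟩

omit [Fintype α] in
theorem self_mem_cyc (hw : ∃ k : ℕ, w ^ p ^ k = 1) (x : α) : x ∈ cyc w x :=
  iterate_mem_cyc (period_pos hw x) 0

omit [Fintype α] in
theorem mem_cyc_iff (hw : ∃ k : ℕ, w ^ p ^ k = 1) (x y : α) : w y ∈ cyc w x ↔ y ∈ cyc w x := by
  have hpos := period_pos hw x
  constructor
  · intro h
    obtain ⟨i, -, hi⟩ := Finset.mem_image.1 h
    have : y = (⇑w)^[i + (Function.minimalPeriod w x - 1)] x := by
      apply w.injective
      rw [← Function.iterate_succ_apply' (⇑w), show (i + (Function.minimalPeriod w x - 1)).succ =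
        i + Function.minimalPeriod w x by omega, Function.iterate_add_apply, Function.iterate_minimalPeriod, hi]
    exact this ▸ iterate_mem_cyc hpos _
  · intro h
    obtain ⟨i, -, rfl⟩ := Finset.mem_image.1 h
    rw [← Function.iterate_succ_apply' (⇑w)]
    exact iterate_mem_cyc hpos _

/-- An invariant set of prescribed size `t` divisible by all periods. -/
theorem exists_invariant (hw : ∃ k : ℕ, w ^ p ^ k = 1) : ∀ t : ℕ, ∀ M : Finset α,
    (∀ x, w x ∈ M ↔ x ∈ M) → t ≤ M.card → (∀ x ∈ M, Function.minimalPeriod w x ∣ t) →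
    ∃ T ⊆ M, (∀ x, w x ∈ T ↔ x ∈ T) ∧ T.card = t ∧
      (0 < t → ∃ z ∈ T, ∀ x ∈ M, Function.minimalPeriod w x ≤ Function.minimalPeriod w z) := by
  intro t
  induction t using Nat.strong_induction_on with
  | _ t ih =>
    intro M hM ht hdvd
    rcases Nat.eq_zero_or_pos t with rfl | htpos
    · exact ⟨∅, Finset.empty_subset _, by simp, by simp, fun h => absurd h (lt_irrefl 0)⟩
    obtain ⟨z, hz, hmax⟩ := M.exists_max_image (Function.minimalPeriod w)
      (Finset.card_pos.1 (lt_of_lt_of_le htpos ht))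
    have hqpos := period_pos hw z
    have hqt := Nat.le_of_dvd htpos (hdvd z hz)
    have hsub : cyc w z ⊆ M := by
      intro y hy
      obtain ⟨i, -, rfl⟩ := Finset.mem_image.1 hy
      clear hy
      induction i with
      | zero => exact hz
      | succ i ih => rw [Function.iterate_succ_apply']; exact (hM _).2 ih
    obtain ⟨T, hTM, hTinv, hTcard, -⟩ := ih (t - Function.minimalPeriod w z) (by omega) (M \ cyc w z)
      (fun x => by rw [Finset.mem_sdiff, Finset.mem_sdiff, hM, mem_cyc_iff hw])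
      (by rw [Finset.card_sdiff_of_subset hsub, card_cyc]; omega)
      (fun x hx => by
        obtain ⟨hxM, -⟩ := Finset.mem_sdiff.1 hx
        obtain ⟨j, hj⟩ := period_eq_pow hw z
        exact Nat.dvd_sub (hdvd x hxM) (hj ▸ period_dvd_of_le hw (hj ▸ hmax x hxM)))
    refine ⟨cyc w z ∪ T, Finset.union_subset hsub (hTM.trans Finset.sdiff_subset),
      fun x => by rw [Finset.mem_union, Finset.mem_union, mem_cyc_iff hw, hTinv], ?_,
      fun _ => ⟨z, Finset.mem_union_left _ (self_mem_cyc hw z), hmax⟩⟩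
    rw [Finset.card_union_of_disjoint, card_cyc, hTcard]
    · omega
    · exact Finset.disjoint_left.2 fun a ha haT => (Finset.mem_sdiff.1 (hTM haT)).2 ha

omit [Fintype α] [DecidableEq α] [Fact p.Prime] in
/-- A cycle as a frame indexed by residues. -/
theorem exists_cycle_frame (u : Perm α) (z : α) {P : ℕ} (hP : Function.minimalPeriod u z = P) (h1 : 1 < P) :
    ∃ e : ZMod P → α, Function.Injective e ∧ ∀ i, u (e i) = e (i + 1) := by
  haveI : NeZero P := ⟨by omega⟩
  haveI : Fact (1 < P) := ⟨h1⟩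
  refine ⟨fun i => (⇑u)^[i.val] z, fun i j h => ZMod.val_injective P ?_, fun i => ?_⟩
  · exact Function.iterate_injOn_Iio_minimalPeriod (by rw [hP]; exact ZMod.val_lt i)
      (by rw [hP]; exact ZMod.val_lt j) h
  · show u ((⇑u)^[i.val] z) = (⇑u)^[(i + 1).val] z
    subst hP
    rw [← Function.iterate_succ_apply' (⇑u), ZMod.val_add, Function.iterate_mod_minimalPeriod_eq, ZMod.val_one,
      Nat.succ_eq_add_one]

omit [Fintype α] [DecidableEq α] [Fact p.Prime] in
/-- Re-indexing a bijection so that one index gets a prescribed value. -/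
theorem adjust {β γ : Type*} [DecidableEq β] (f : β ≃ γ) (i : β) (c : γ) :
    ∃ f' : β ≃ γ, f' i = c ∧ ∀ j, j ≠ i → f j ≠ c → f' j = f j :=
  ⟨(Equiv.swap i (f.symm c)).trans f, by simp, fun j hji hjc => by
    rw [Equiv.trans_apply, Equiv.swap_apply_of_ne_of_ne hji fun h => hjc (by rw [h, Equiv.apply_symm_apply])]⟩

end Cfsg.Lib.PElementPairs
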