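import Cfsg.Agent.Known.PElementPairs.Translation

/-!
In a solvable permutation group containing a regular cyclic subgroup of odd prime power order, an element of
`p`-power order translates the residues modulo `p`.
-/

set_option autoImplicit false

namespace Cfsg.Lib.PElementPairs

open Equiv

universe u

variable {p : ℕ} [Fact p.Prime]

section Prim

variable {Q : Type u} [AddCommGroup Q] [Finite Q]

omit [Fact p.Prime] in
theorem addRight_mem {g : Q} (hg : ∀ x : Q, ∃ i : ℕ, i • g = x) {H : Subgroup (Perm Q)}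
    (ht : Equiv.addRight g ∈ H) (x : Q) : Equiv.addRight x ∈ H := by
  obtain ⟨i, rfl⟩ := hg x
  rw [← pow_addRight_eq]
  exact pow_mem ht i

theorem exists_abelian_normalised (H : Subgroup (Perm Q)) [Group.IsSolvable H] (hH : H ≠ ⊥) :
    ∃ N : Subgroup (Perm Q), N ≠ ⊥ ∧ (∀ a ∈ N, ∀ b ∈ N, a * b = b * a) ∧
      ∀ h ∈ H, ∀ a ∈ N, h * a * h⁻¹ ∈ N := by
  classical
  have hs : Group.IsSolvable ↥H := inferInstance
  rw [Group.isSolvable_def] at hs
  have hk : Nat.find hs ≠ 0 := by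
    intro h0
    have h1 := Nat.find_spec hs
    rw [h0, derivedSeries_zero] at h1
    apply hH
    rw [Subgroup.eq_bot_iff_forall]
    intro x hx
    have hm : (⟨x, hx⟩ : H) ∈ (⊤ : Subgroup H) := Subgroup.mem_top _
    rw [h1, Subgroup.mem_bot] at hm
    exact congrArg Subtype.val hm
  obtain ⟨k, hk⟩ := Nat.exists_eq_succ_of_ne_zero hk
  have hspec := Nat.find_spec hs
  rw [hk, derivedSeries_succ] at hspec
  refine ⟨(derivedSeries H k).map H.subtype, fun e => ?_, ?_, ?_⟩
  · exact Nat.find_min hs (show k < Nat.find hs by omega)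
      ((Subgroup.map_eq_bot_iff_of_injective _ H.subtype_injective).1 e)
  · rintro _ ⟨a, ha, rfl⟩ _ ⟨b, hb, rfl⟩
    have := Subgroup.commutator_mem_commutator ha hb
    rw [hspec, Subgroup.mem_bot, commutatorElement_eq_one_iff_mul_comm] at this
    exact congrArg Subtype.val this
  · rintro h hh _ ⟨a, ha, rfl⟩
    exact ⟨(⟨h, hh⟩ : H) * a * (⟨h, hh⟩ : H)⁻¹, (derivedSeries_normal H k).conj_mem a ha _, by simp⟩

/-- The primitive case: prime degree and translations. -/
theorem prim_translation (hp2 : p ≠ 2) {b : ℕ} (hQ : Nat.card Q = p ^ b) (hb : b ≠ 0) {g : Q}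
    (hg : ∀ x : Q, ∃ i : ℕ, i • g = x) (H : Subgroup (Perm Q)) [Group.IsSolvable H] (ht : Equiv.addRight g ∈ H)
    (hprim : ∀ E : AddSubgroup Q, (∀ h ∈ H, ∀ x y, x - y ∈ E → h x - h y ∈ E) → E = ⊥ ∨ E = ⊤) :
    b = 1 ∧ ∀ h ∈ H, (∃ k : ℕ, h ^ p ^ k = 1) → ∀ x, h x = x + h 0 := by
  classical
  have hp := (Fact.out : p.Prime)
  haveI : Nontrivial Q := Finite.one_lt_card_iff_nontrivial.1 (by rw [hQ]; exact Nat.one_lt_pow hb hp.one_lt)
  have hg0 : g ≠ 0 := by
    rintro rfl
    obtain ⟨x, hx⟩ := exists_ne (0 : Q)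
    obtain ⟨i, hi⟩ := hg x
    exact hx (by rw [← hi, smul_zero])
  have hH : H ≠ ⊥ := fun e => hg0 (by
    have h1 : Equiv.addRight g = 1 := Subgroup.mem_bot.1 (e ▸ ht)
    have h2 := Equiv.congr_fun h1 0
    simpa using h2)
  obtain ⟨M, hM1, hMc, hMn⟩ := exists_abelian_normalised H hH
  obtain ⟨l, hl, hld⟩ := Nat.exists_prime_and_dvd
    (show Nat.card M ≠ 1 from fun e => hM1 (Subgroup.card_eq_one.1 e))
  haveI : Fact l.Prime := ⟨hl⟩
  obtain ⟨⟨a₀, ha₀⟩, hord⟩ := exists_prime_orderOf_dvd_card' l hld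
  let N : Subgroup (Perm Q) :=
    { carrier := {a | a ∈ M ∧ a ^ l = 1}
      one_mem' := ⟨one_mem M, one_pow l⟩
      mul_mem' := fun {a c} ha hc => ⟨mul_mem ha.1 hc.1, by
        rw [(show Commute a c from hMc a ha.1 c hc.1).mul_pow, ha.2, hc.2, one_mul]⟩
      inv_mem' := fun {a} ha => ⟨inv_mem ha.1, by rw [inv_pow, ha.2, inv_one]⟩ }
  have hNn : ∀ h ∈ H, ∀ a ∈ N, h * a * h⁻¹ ∈ N := fun h hh a ha =>
    ⟨hMn h hh a ha.1, by rw [conj_pow, ha.2, mul_one, mul_inv_cancel]⟩
  have ha₀l : a₀ ^ l = 1 := by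
    rw [← hord, ← Subgroup.orderOf_coe]
    exact pow_orderOf_eq_one a₀
  have hshift : ∀ (x : Q), ∀ a ∈ N, ∃ c ∈ N, ∀ z, c z = a (z - x) + x := fun x a ha =>
    ⟨_, hNn _ (addRight_mem hg ht x) a ha, fun z => ElemRegular.apply_conj a z⟩
  let E : AddSubgroup Q :=
    { carrier := {x | ∃ a ∈ N, a 0 = x}
      zero_mem' := ⟨1, one_mem N, rfl⟩
      add_mem' := fun {x y} hx hy => by
        obtain ⟨a, ha, rfl⟩ := hx
        obtain ⟨b', hb', rfl⟩ := hy
        obtain ⟨c, hc, hcz⟩ := hshift (a 0) b' hb'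
        exact ⟨c * a, mul_mem hc ha, by rw [Perm.mul_apply, hcz, sub_self, add_comm]⟩
      neg_mem' := fun {x} hx => by
        obtain ⟨a, ha, rfl⟩ := hx
        obtain ⟨c, hc, hcz⟩ := hshift (-a 0) a⁻¹ (inv_mem ha)
        exact ⟨c, hc, by rw [hcz, zero_sub, neg_neg, Perm.coe_inv, Equiv.symm_apply_apply, zero_add]⟩ }
  have hinv : ∀ h ∈ H, ∀ x y, x - y ∈ E → h x - h y ∈ E := by
    intro h hh x y ⟨a, ha, hxy⟩
    obtain ⟨c, hc, hcz⟩ := hshift y a ha
    obtain ⟨d, hd, hdz⟩ := hshift (-h y) (h * c * h⁻¹) (hNn h hh c hc)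
    refine ⟨d, hd, ?_⟩
    have hcy : c y = x := by rw [hcz, sub_self, hxy, sub_add_cancel]
    rw [hdz, zero_sub, neg_neg, Perm.mul_apply, Perm.mul_apply, Perm.coe_inv, Equiv.symm_apply_apply, hcy,
      ← sub_eq_add_neg]
  have hE : E = ⊤ := by
    refine (hprim E hinv).resolve_left fun e => ?_
    have hz : ∃ z, a₀ z ≠ z := by
      by_contra! h
      have h1 : a₀ = 1 := Equiv.ext h
      subst h1
      rw [← Subgroup.orderOf_coe, orderOf_one] at hord
      exact hl.one_lt.ne hord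
    obtain ⟨z, hz⟩ := hz
    obtain ⟨c, hc, hcz⟩ := hshift (-z) a₀ ⟨ha₀, ha₀l⟩
    have : c 0 ∈ E := ⟨c, hc, rfl⟩
    rw [e, AddSubgroup.mem_bot, hcz, zero_sub, neg_neg, ← sub_eq_add_neg, sub_eq_zero] at this
    exact hz this
  have htrans : ∀ x : Q, ∃ a ∈ N, a 0 = x := fun x => (hE ▸ AddSubgroup.mem_top x : x ∈ E)
  have hlp : l = p := by
    have hreg : Function.Bijective fun a : N => (a : Perm Q) 0 := by
      refine ⟨fun a c h => Subtype.ext (Equiv.ext fun x => ?_), fun x => ?_⟩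
      · obtain ⟨d, hd, rfl⟩ := htrans x
        calc (a : Perm Q) (d 0) = ((a : Perm Q) * d) 0 := rfl
          _ = (d * (a : Perm Q)) 0 := by rw [hMc _ a.2.1 d hd.1]
          _ = d ((c : Perm Q) 0) := congrArg d h
          _ = ((c : Perm Q) * d) 0 := by rw [hMc _ c.2.1 d hd.1]; rfl
      · obtain ⟨a, ha, hx⟩ := htrans x
        exact ⟨⟨a, ha⟩, hx⟩
    have hd : orderOf (⟨a₀, ha₀, ha₀l⟩ : N) ∣ p ^ b := by
      rw [← hQ, ← Nat.card_eq_of_bijective _ hreg]
      exact orderOf_dvd_natCard _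
    rw [← Subgroup.orderOf_coe] at hd
    rw [← Subgroup.orderOf_coe] at hord
    rw [hord] at hd
    exact (Nat.prime_dvd_prime_iff_eq hl hp).1 (hl.dvd_of_dvd_pow hd)
  subst hlp
  have hR : ElemRegular l g N :=
    ⟨fun a ha c hc => hMc a ha.1 c hc.1, fun a ha => ha.2, htrans, fun a ha => hNn _ ht a ha⟩
  have hb1 : b = 1 := by
    by_contra hne
    exact no_elemRegular l hp2 (b - 2) Q g N hg (by rw [hQ, show b - 2 + 2 = b by omega]) hR
  subst hb1
  rw [pow_one] at hQ
  refine ⟨rfl, fun h hh ⟨k, hk⟩ => ?_⟩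
  have htr := hR.translations hg hQ
  obtain ⟨a, ha, ha0⟩ := htrans g
  have hag : ∀ x, a x = x + g := fun x => by
    have e := htr a ha 0 x
    rw [zero_add, ha0] at e
    rw [e, add_comm]
  set c := h * a * h⁻¹ with hcdef
  obtain ⟨j, hj⟩ := hg (c 0)
  have hstep : ∀ x, h (x + g) = h x + j • g := fun x => by
    have e := htr c (hNn h hh a ha) 0 (h x)
    rw [zero_add, hcdef, Perm.mul_apply, Perm.mul_apply, Perm.coe_inv, Equiv.symm_apply_apply, hag] at e
    rw [e, hj, hcdef, add_comm]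
  have hlin : ∀ (i : ℕ) (x : Q), h (x + i • g) = h x + (i * j) • g := by
    intro i
    induction i with
    | zero => intro x; simp
    | succ i ih => intro x; rw [succ_nsmul, ← add_assoc, hstep, ih, Nat.succ_mul, add_nsmul]; abel
  have hit : ∀ (m : ℕ) (x : Q), (h ^ m) (x + g) = (h ^ m) x + (j ^ m) • g := by
    intro m
    induction m with
    | zero => intro x; simp
    | succ m ih => intro x; rw [pow_succ', Perm.mul_apply, Perm.mul_apply, ih, hlin, ← pow_succ]
  have e1 : g = (j ^ l ^ k) • g := by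
    have := hit (l ^ k) 0
    rwa [hk, Perm.one_apply, Perm.one_apply, zero_add, zero_add] at this
  have hordg : addOrderOf g = l := by
    refine addOrderOf_eq_prime ?_ hg0
    rw [← hQ]; exact card_nsmul_eq_zero'
  have hiff : ∀ m n : ℕ, (m : ZMod l) = n ↔ m • g = n • g := fun m n => by
    rw [ZMod.natCast_eq_natCast_iff, nsmul_eq_nsmul_iff_modEq, hordg]
  have hjz : ((j ^ l ^ k : ℕ) : ZMod l) = ((1 : ℕ) : ZMod l) := by
    rw [hiff, one_nsmul]
    exact e1.symm
  rw [Nat.cast_pow, ZMod.pow_card_pow, hiff, one_nsmul] at hjz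
  exact eq_addRight_of_comm hg fun x => by rw [hstep, hjz]

end Prim

variable {A : Type u} [AddCommGroup A] [Finite A]

/-- Elements of `p`-power order in a solvable group containing the translation translate residues mod `p`. -/
theorem translation_of_solvable (hp2 : p ≠ 2) {a : ℕ} (hA : Nat.card A = p ^ a) {g : A}
    (hg : ∀ x : A, ∃ i : ℕ, i • g = x) (H : Subgroup (Perm A)) [Group.IsSolvable H] (ht : Equiv.addRight g ∈ H)
    {h : Perm A} (hh : h ∈ H) (hk : ∃ k : ℕ, h ^ p ^ k = 1) (x y : A) :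
    ∃ z : A, p • z = (h x - x) - (h y - y) := by
  classical
  have hp := (Fact.out : p.Prime)
  rcases subsingleton_or_nontrivial A with hs | hn
  · exact ⟨0, Subsingleton.elim _ _⟩
  obtain ⟨D, -, hD⟩ := Finite.exists_le_maximal (a := (⊥ : AddSubgroup A)) (p := fun D : AddSubgroup A =>
    D ≠ ⊤ ∧ ∀ h ∈ H, ∀ x y, x - y ∈ D → h x - h y ∈ D) ⟨bot_ne_top, fun h _ x y e => by
      rw [AddSubgroup.mem_bot, sub_eq_zero] at e ⊢
      rw [e]⟩
  obtain ⟨⟨hDne, hDinv⟩, hmax⟩ := hD
  have hrel : ∀ f ∈ H, ∀ x y, QuotientAddGroup.leftRel D x y → QuotientAddGroup.leftRel D (f x) (f y) := by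
    intro f hf x y e
    rw [QuotientAddGroup.leftRel_apply] at e ⊢
    rw [neg_add_eq_sub] at e ⊢
    exact hDinv f hf y x e
  let act : H → Perm (A ⧸ D) := fun f =>
    { toFun := Quotient.map' (f : Perm A) fun x y e => hrel _ f.2 x y e
      invFun := Quotient.map' ((f⁻¹ : H) : Perm A) fun x y e => hrel _ (f⁻¹).2 x y e
      left_inv := fun q => Quotient.inductionOn' q fun x => by simp
      right_inv := fun q => Quotient.inductionOn' q fun x => by simp }
  let φ : H →* Perm (A ⧸ D) :=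
    { toFun := act
      map_one' := Equiv.ext fun q => Quotient.inductionOn' q fun x => rfl
      map_mul' := fun a c => Equiv.ext fun q => Quotient.inductionOn' q fun x => rfl }
  have hφ : ∀ (f : H) (x : A), φ f (x : A ⧸ D) = (((f : Perm A) x : A) : A ⧸ D) := fun f x => rfl
  haveI : Group.IsSolvable φ.range := Group.isSolvable_of_surjective φ.rangeRestrict_surjective
  have htQ : Equiv.addRight (g : A ⧸ D) ∈ φ.range := ⟨⟨_, ht⟩, Equiv.ext fun q => by
    induction q using QuotientAddGroup.induction_on with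
    | _ x => rw [hφ]; exact QuotientAddGroup.mk_add D x g⟩
  obtain ⟨b, -, hb⟩ := (Nat.dvd_prime_pow hp).1
    (hA ▸ AddSubgroup.card_dvd_of_surjective (QuotientAddGroup.mk' D) (QuotientAddGroup.mk'_surjective D) :
      Nat.card (A ⧸ D) ∣ p ^ a)
  have hb0 : b ≠ 0 := fun e => hDne (by
    rw [e, pow_zero] at hb
    exact AddSubgroup.index_eq_one.1 hb)
  obtain ⟨hb1, htr⟩ := prim_translation hp2 hb hb0 (generates_quotient hg D) φ.range htQ fun E hE => by
    by_cases hEt : E = ⊤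
    · exact Or.inr hEt
    refine Or.inl ?_
    have hle : D ≤ E.comap (QuotientAddGroup.mk' D) := fun z hz => by
      show ((z : A) : A ⧸ D) ∈ E
      rw [(QuotientAddGroup.eq_zero_iff z).2 hz]
      exact zero_mem E
    have hle' : E.comap (QuotientAddGroup.mk' D) ≤ D := hmax ⟨fun e => hEt ?_, fun f hf u v e => ?_⟩ hle
    · rw [eq_bot_iff]
      intro q hq
      induction q using QuotientAddGroup.induction_on with
      | _ z => exact (QuotientAddGroup.eq_zero_iff z).2 (hle' hq)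
    · rw [eq_top_iff]
      intro q _
      induction q using QuotientAddGroup.induction_on with
      | _ z => exact (e ▸ AddSubgroup.mem_top z : z ∈ E.comap (QuotientAddGroup.mk' D))
    · have := hE (φ ⟨f, hf⟩) ⟨_, rfl⟩ (u : A ⧸ D) (v : A ⧸ D) e
      simpa [hφ] using this
  obtain ⟨k, hk⟩ := hk
  have hT := htr (φ ⟨h, hh⟩) ⟨_, rfl⟩ ⟨k, by rw [← map_pow, show (⟨h, hh⟩ : H) ^ p ^ k = 1 from Subtype.ext hk, map_one]⟩
  have hx := hT (x : A ⧸ D)
  have hy := hT (y : A ⧸ D)
  rw [← QuotientAddGroup.mk_zero, hφ, hφ, ← QuotientAddGroup.mk_add, QuotientAddGroup.eq] at hx hy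
  have hmem : (h x - x) - (h y - y) ∈ D := by
    have := sub_mem hy hx
    convert this using 1
    simp only
    abel
  -- an element of a proper subgroup is a multiple of `p`
  obtain ⟨i, hi⟩ := hg ((h x - x) - (h y - y))
  by_cases hpi : p ∣ i
  · obtain ⟨c, rfl⟩ := hpi
    exact ⟨c • g, by rw [← hi, mul_nsmul']⟩
  · exfalso
    apply hDne
    rw [eq_top_iff]
    intro z _
    obtain ⟨m, rfl⟩ := hg z
    refine nsmul_mem ?_ m
    rw [← hi] at hmem
    have ha : a ≠ 0 := by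
      rintro rfl
      rw [pow_zero] at hA
      exact (not_le.2 (Finite.one_lt_card (α := A))) hA.le
    obtain ⟨n, hn⟩ : ∃ n : ℕ, i * n % (p ^ a) = 1 := by
      obtain ⟨n, -, hn⟩ := Nat.exists_mul_mod_eq_one_of_coprime
        (Nat.Coprime.pow_right a ((hp.coprime_iff_not_dvd.2 hpi).symm)) (Nat.one_lt_pow ha hp.one_lt)
      exact ⟨n, hn⟩
    have := nsmul_mem hmem n
    rw [← mul_nsmul] at this
    have hz : (p ^ a) • g = 0 := by rw [← hA]; exact card_nsmul_eq_zero'
    rwa [← Nat.div_add_mod (i * n) (p ^ a), hn, add_nsmul, mul_nsmul, hz, smul_zero, zero_add, one_nsmul] at this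

end Cfsg.Lib.PElementPairs
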