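import Mathlib

/-!
A solvable group of permutations of a cyclic group of odd prime power order containing a translation by a
generator: its elements of `p`-power order translate the residues modulo `p`.
-/

set_option autoImplicit false

namespace Cfsg.Lib.PElementPairs

universe u

variable {A : Type u} [AddCommGroup A]

/-- `N` is an abelian permutation group, transitive, of exponent `p`, normalised by the translation by `g`. -/
structure ElemRegular (p : ℕ) (g : A) (N : Subgroup (Equiv.Perm A)) : Prop where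
  comm : ∀ a ∈ N, ∀ b ∈ N, a * b = b * a
  exp : ∀ a ∈ N, a ^ p = 1
  trans : ∀ x : A, ∃ a ∈ N, a 0 = x
  conj : ∀ a ∈ N, Equiv.addRight g * a * (Equiv.addRight g)⁻¹ ∈ N

variable {p : ℕ} {g : A} {N : Subgroup (Equiv.Perm A)}

theorem ElemRegular.eq_of_zero (hN : ElemRegular p g N) {a b : Equiv.Perm A} (ha : a ∈ N) (hb : b ∈ N)
    (h : a 0 = b 0) : a = b := by
  refine Equiv.ext fun x => ?_
  obtain ⟨c, hc, rfl⟩ := hN.trans x
  calc a (c 0) = (a * c) 0 := rfl
    _ = (c * a) 0 := by rw [hN.comm a ha c hc]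
    _ = c (b 0) := by rw [Equiv.Perm.mul_apply, h]
    _ = (b * c) 0 := by rw [hN.comm b hb c hc]; rfl

theorem ElemRegular.apply_conj (a : Equiv.Perm A) (x : A) :
    (Equiv.addRight g * a * (Equiv.addRight g)⁻¹) x = a (x - g) + g := by
  simp [Equiv.Perm.mul_apply, sub_eq_add_neg]

theorem pow_addRight_eq (x : A) (k : ℕ) : Equiv.addRight x ^ k = Equiv.addRight (k • x) := by
  induction k with
  | zero => refine Equiv.ext fun y => ?_; simp
  | succ k ih => rw [pow_succ', ih]; refine Equiv.ext fun y => ?_; simp [succ_nsmul, add_assoc]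

/-- A permutation commuting with the translation by a generator is a translation. -/
theorem eq_addRight_of_comm [Finite A] (hg : ∀ x : A, ∃ i : ℕ, i • g = x) {a : Equiv.Perm A}
    (h : ∀ x, a (x + g) = a x + g) : ∀ x, a x = x + a 0 := by
  intro x
  obtain ⟨i, rfl⟩ := hg x
  induction i with
  | zero => simp
  | succ i ih => rw [succ_nsmul, h, ih]; abel

/-- A regular elementary abelian group normalised by the translation contains a translation of order `p`. -/
theorem ElemRegular.exists_translation [Finite A] [Fact p.Prime] (hN : ElemRegular p g N)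
    (hg : ∀ x : A, ∃ i : ℕ, i • g = x) {b : ℕ} (hA : Nat.card A = p ^ b) (hb : b ≠ 0) :
    ∃ v : A, v ≠ 0 ∧ p • v = 0 ∧ Equiv.addRight v ∈ N ∧ ∀ a ∈ N, ∀ x, a (x + v) = a x + v := by
  classical
  have := Fintype.ofFinite A
  let e : N → A := fun a => (a : Equiv.Perm A) 0
  have he : Function.Bijective e :=
    ⟨fun a c h => Subtype.ext (hN.eq_of_zero a.2 c.2 h), fun x => by
      obtain ⟨a, ha, hx⟩ := hN.trans x; exact ⟨⟨a, ha⟩, hx⟩⟩
  let σ : Equiv.Perm N := Equiv.ofBijective
    (fun a => ⟨_, hN.conj a a.2⟩) (Finite.injective_iff_bijective.1 fun a c h => by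
      exact Subtype.ext (mul_left_cancel (mul_right_cancel (congrArg Subtype.val h))))
  have hσ : ∀ a : N, ((σ a : N) : Equiv.Perm A) = Equiv.addRight g * a * (Equiv.addRight g)⁻¹ := fun a => rfl
  have hσpow : ∀ (k : ℕ) (a : N), (((σ ^ k) a : N) : Equiv.Perm A) =
      Equiv.addRight g ^ k * a * (Equiv.addRight g ^ k)⁻¹ := by
    intro k
    induction k with
    | zero => intro a; simp
    | succ k ih =>
      intro a
      rw [pow_succ', Equiv.Perm.mul_apply, hσ, ih, pow_succ']
      group
  have hgz : p ^ b • g = 0 := by rw [← hA]; exact card_nsmul_eq_zero'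
  have hord : σ ^ p ^ b = 1 := by
    refine Equiv.ext fun a => Subtype.ext ?_
    rw [hσpow, pow_addRight_eq, hgz, Equiv.addRight_zero]
    simp
  have hcard : p ∣ Fintype.card N := by
    rw [← Nat.card_eq_fintype_card, Nat.card_eq_of_bijective e he, hA]
    exact dvd_pow_self p hb
  obtain ⟨⟨a, ha⟩, hfix, hne⟩ := Equiv.Perm.exists_fixed_point_of_prime' hcard hord
    (a := (1 : N)) (Subtype.ext (by rw [hσ]; show Equiv.addRight g * 1 * (Equiv.addRight g)⁻¹ = 1; rw [mul_one, mul_inv_cancel]))
  have hcom : ∀ x, a (x + g) = a x + g := by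
    intro x
    have h := congrArg (fun f : N => (f : Equiv.Perm A) (x + g)) hfix
    simp only [hσ, ElemRegular.apply_conj, add_sub_cancel_right] at h
    exact h.symm
  have hav := eq_addRight_of_comm hg hcom
  have heq : a = Equiv.addRight (a 0) := Equiv.ext fun x => hav x
  refine ⟨a 0, fun h0 => hne (Subtype.ext ?_), ?_, heq ▸ ha, fun c hc x => ?_⟩
  · show a = 1
    rw [heq, h0, Equiv.addRight_zero]
  · have h := congrArg (fun f : Equiv.Perm A => f 0) (hN.exp a ha)
    rw [heq] at h
    simpa [pow_addRight_eq] using h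
  · rw [← hav x, ← hav (c x)]
    exact congrArg (fun f : Equiv.Perm A => f x) (hN.comm c hc a ha)

/-- A permutation commuting with the translation by `v` commutes with those by the multiples of `v`. -/
theorem periodic [Finite A] {v : A} {a : Equiv.Perm A} (h : ∀ x, a (x + v) = a x + v) :
    ∀ x, ∀ y ∈ AddSubgroup.zmultiples v, a (x + y) = a x + y := by
  intro x y hy
  obtain ⟨i, rfl⟩ : ∃ i : ℕ, i • v = y := AddSubmonoid.mem_multiples_iff y v |>.1 (mem_multiples_iff_mem_zmultiples.2 hy)
  induction i with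
  | zero => simp
  | succ i ih =>
    rw [succ_nsmul, ← add_assoc, h, ih (AddSubgroup.nsmul_mem_zmultiples _ _), add_assoc]

/-- Passing to the quotient by an invariant subgroup of translations. -/
theorem ElemRegular.quotient (hN : ElemRegular p g N) (V : AddSubgroup A)
    (hper : ∀ a ∈ N, ∀ x, ∀ y ∈ V, a (x + y) = a x + y) :
    ∃ N' : Subgroup (Equiv.Perm (A ⧸ V)), ElemRegular p (g : A ⧸ V) N' ∧
      ∀ a ∈ N, ∃ c ∈ N', ∀ x : A, c (x : A ⧸ V) = (a x : A) := by
  let act : N → Equiv.Perm (A ⧸ V) := fun a =>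
    { toFun := Quotient.map' (a : Equiv.Perm A) fun x y h => by
        rw [QuotientAddGroup.leftRel_apply] at h ⊢
        have e := hper _ a.2 x _ h
        rw [add_neg_cancel_left] at e
        rwa [e, neg_add_cancel_left]
      invFun := Quotient.map' ((a⁻¹ : N) : Equiv.Perm A) fun x y h => by
        rw [QuotientAddGroup.leftRel_apply] at h ⊢
        have e := hper _ (a⁻¹).2 x _ h
        rw [add_neg_cancel_left] at e
        rwa [e, neg_add_cancel_left]
      left_inv := fun q => Quotient.inductionOn' q fun x => by simp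
      right_inv := fun q => Quotient.inductionOn' q fun x => by simp }
  let ρ : N →* Equiv.Perm (A ⧸ V) :=
    { toFun := act
      map_one' := Equiv.ext fun q => Quotient.inductionOn' q fun x => rfl
      map_mul' := fun a c => Equiv.ext fun q => Quotient.inductionOn' q fun x => rfl }
  have hρ : ∀ (a : N) (x : A), ρ a (x : A ⧸ V) = (((a : Equiv.Perm A) x : A) : A ⧸ V) := fun a x => rfl
  refine ⟨ρ.range, ⟨?_, ?_, ?_, ?_⟩, fun a ha => ⟨ρ ⟨a, ha⟩, ⟨_, rfl⟩, hρ ⟨a, ha⟩⟩⟩
  · rintro _ ⟨a, rfl⟩ _ ⟨c, rfl⟩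
    rw [← map_mul, ← map_mul, show a * c = c * a from Subtype.ext (hN.comm a a.2 c c.2)]
  · rintro _ ⟨a, rfl⟩
    rw [← map_pow, show a ^ p = 1 from Subtype.ext (hN.exp a a.2), map_one]
  · intro q
    induction q using QuotientAddGroup.induction_on with
    | _ x =>
      obtain ⟨a, ha, rfl⟩ := hN.trans x
      exact ⟨ρ ⟨a, ha⟩, ⟨_, rfl⟩, hρ ⟨a, ha⟩ 0⟩
  · rintro _ ⟨a, rfl⟩
    refine ⟨⟨_, hN.conj a a.2⟩, Equiv.ext fun q => ?_⟩
    induction q using QuotientAddGroup.induction_on with
    | _ x =>
      rw [hρ, ElemRegular.apply_conj, ElemRegular.apply_conj, ← QuotientAddGroup.mk_sub, hρ,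
        ← QuotientAddGroup.mk_add]

theorem generates_quotient (hg : ∀ x : A, ∃ i : ℕ, i • g = x) (V : AddSubgroup A) :
    ∀ q : A ⧸ V, ∃ i : ℕ, i • (g : A ⧸ V) = q := by
  intro q
  induction q using QuotientAddGroup.induction_on with
  | _ x => obtain ⟨i, rfl⟩ := hg x; exact ⟨i, (QuotientAddGroup.mk_nsmul V g i).symm⟩

/-- On a group of prime order the regular subgroup is the translation group. -/
theorem ElemRegular.translations [Finite A] [Fact p.Prime] (hN : ElemRegular p g N)
    (hg : ∀ x : A, ∃ i : ℕ, i • g = x) (hA : Nat.card A = p) :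
    ∀ a ∈ N, ∀ x y, a (x + y) = a x + y := by
  obtain ⟨v, hv, -, -, hc⟩ := hN.exists_translation hg (b := 1) (by rw [hA, pow_one]) one_ne_zero
  exact fun a ha x y => periodic (hc a ha) x y (by rw [zmultiples_eq_top_of_prime_card hA hv]; trivial)

/-- The case of order `p ^ 2`. -/
theorem no_elemRegular_two [Finite A] [Fact p.Prime] (hp2 : p ≠ 2) (hA : Nat.card A = p ^ 2)
    (hg : ∀ x : A, ∃ i : ℕ, i • g = x) : ¬ ElemRegular p g N := by
  intro hN
  have hp := (Fact.out : p.Prime)
  obtain ⟨v, hv, hpv, -, hc⟩ := hN.exists_translation hg hA two_ne_zero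
  set V := AddSubgroup.zmultiples v with hV
  have hVcard : Nat.card V = p := by rw [Nat.card_zmultiples, addOrderOf_eq_prime hpv hv]
  have hper : ∀ a ∈ N, ∀ x, ∀ y ∈ V, a (x + y) = a x + y := fun a ha => periodic (hc a ha)
  have hQ : Nat.card (A ⧸ V) = p := by
    have h := AddSubgroup.card_eq_card_quotient_mul_card_addSubgroup V
    rw [hA, hVcard, sq] at h
    exact (Nat.eq_of_mul_eq_mul_right hp.pos h).symm
  obtain ⟨N', hN', hmap⟩ := hN.quotient V hper
  obtain ⟨n, hn, hn0⟩ := hN.trans g
  set f : A → A := fun x => n x - x - g with hf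
  have hfV : ∀ x, f x ∈ V := by
    intro x
    obtain ⟨c, hcN, hcn⟩ := hmap n hn
    have h := hN'.translations (generates_quotient hg V) hQ c hcN 0 (x : A ⧸ V)
    rw [zero_add, hcn, ← QuotientAddGroup.mk_zero, hcn, hn0, ← QuotientAddGroup.mk_add] at h
    rw [← QuotientAddGroup.eq_zero_iff, hf]
    show ((n x - x - g : A) : A ⧸ V) = 0
    rw [sub_sub, QuotientAddGroup.mk_sub, h, add_comm g x, sub_self]
  have hfper : ∀ x, ∀ y ∈ V, f (x + y) = f x := by
    intro x y hy
    simp only [hf, hper n hn x y hy]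
    abel
  set k := f (-g) with hk
  have hstep : ∀ x, f (x - g) = f x + k := by
    intro x
    obtain ⟨c, hc', hc0⟩ := hN.trans k
    have hck : ∀ x, c x = x + k := by
      intro x
      obtain ⟨d, hd, rfl⟩ := hN.trans x
      calc c (d 0) = (c * d) 0 := rfl
        _ = (d * c) 0 := by rw [hN.comm c hc' d hd]
        _ = d (0 + k) := by rw [Equiv.Perm.mul_apply, hc0, zero_add]
        _ = d 0 + k := hper d hd 0 k (hfV _)
    have h := hN.eq_of_zero (hN.conj n hn) (mul_mem hn hc') (by
      rw [ElemRegular.apply_conj, Equiv.Perm.mul_apply, hc0, zero_sub, ← zero_add k, hper n hn 0 k (hfV _), hn0,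
        hk, hf]
      abel)
    have h' := congrArg (fun e : Equiv.Perm A => e x) h
    rw [ElemRegular.apply_conj, Equiv.Perm.mul_apply, hck, hper n hn x k (hfV _)] at h'
    have e : n (x - g) = n x + k - g := eq_sub_of_add_eq h'
    simp only [hf, e]
    abel
  have hf0 : f 0 = 0 := by simp [hf, hn0]
  have hfj : ∀ j : ℕ, f (j • g) = -(j • k) := by
    intro j
    induction j with
    | zero => simp [hf0]
    | succ j ih =>
      have h := hstep ((j + 1) • g)
      rw [succ_nsmul, add_sub_cancel_right, ih] at h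
      rw [succ_nsmul, succ_nsmul, eq_sub_of_add_eq h.symm]
      abel
  have hpow : ∀ j : ℕ, (n ^ j) 0 = j • g - j.choose 2 • k := by
    intro j
    induction j with
    | zero => simp
    | succ j ih =>
      rw [pow_succ', Equiv.Perm.mul_apply, ih]
      have e := hfper (j • g) (-(j.choose 2 • k)) (neg_mem (nsmul_mem (hfV _) _))
      rw [← sub_eq_add_neg, hfj] at e
      simp only [hf] at e
      rw [Nat.choose_succ_succ', Nat.choose_one_right, succ_nsmul, add_nsmul]
      have : n (j • g - j.choose 2 • k) = -(j • k) + g + (j • g - j.choose 2 • k) := by rw [← e]; abel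
      rw [this]
      abel
  have h := hpow p
  rw [hN.exp n hn, Equiv.Perm.one_apply] at h
  obtain ⟨c, hc'⟩ := hp.dvd_choose_self (k := 2) (by norm_num) (lt_of_le_of_ne hp.two_le (Ne.symm hp2))
  have hVk : p • k = 0 := by
    have := card_nsmul_eq_zero' (G := V) (x := ⟨k, hfV _⟩)
    rw [hVcard] at this
    exact congrArg Subtype.val this
  rw [hc', mul_comm p c, mul_nsmul', hVk, nsmul_zero, sub_zero] at h
  have hpg : p • g = 0 := h.symm
  have hgtop : addOrderOf g = Nat.card A := addOrderOf_eq_card_of_forall_mem_zmultiples fun x => by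
    obtain ⟨i, rfl⟩ := hg x; exact AddSubgroup.nsmul_mem_zmultiples _ _
  have hd := addOrderOf_dvd_of_nsmul_eq_zero hpg
  rw [hgtop, hA] at hd
  have := Nat.le_of_dvd hp.pos hd
  have : p * p ≤ p := by rwa [sq] at this
  exact absurd this (not_le.2 (lt_mul_of_one_lt_left hp.pos hp.one_lt))

/-- No elementary abelian regular group is normalised by a regular cyclic group of order at least `p ^ 2`. -/
theorem no_elemRegular (p : ℕ) [Fact p.Prime] (hp2 : p ≠ 2) :
    ∀ b : ℕ, ∀ (A : Type u) [AddCommGroup A] [Finite A] (g : A) (N : Subgroup (Equiv.Perm A)),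
      (∀ x : A, ∃ i : ℕ, i • g = x) → Nat.card A = p ^ (b + 2) → ¬ ElemRegular p g N := by
  intro b
  induction b with
  | zero => exact fun A _ _ g N hg hA => no_elemRegular_two hp2 hA hg
  | succ b ih =>
    intro A _ _ g N hg hA hN
    have hp := (Fact.out : p.Prime)
    obtain ⟨v, hv, hpv, -, hc⟩ := hN.exists_translation hg hA (Nat.succ_ne_zero _)
    set V := AddSubgroup.zmultiples v with hV
    have hVcard : Nat.card V = p := by rw [Nat.card_zmultiples, addOrderOf_eq_prime hpv hv]
    have hQ : Nat.card (A ⧸ V) = p ^ (b + 2) := by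
      have h := AddSubgroup.card_eq_card_quotient_mul_card_addSubgroup V
      rw [hA, hVcard, show b + 1 + 2 = (b + 2) + 1 by omega, pow_succ] at h
      exact (Nat.eq_of_mul_eq_mul_right hp.pos h).symm
    obtain ⟨N', hN', -⟩ := hN.quotient V fun a ha => periodic (hc a ha)
    exact ih (A ⧸ V) (g : A ⧸ V) N' (generates_quotient hg V) hQ hN'

end Cfsg.Lib.PElementPairs
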